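import Groth.Agent.PCHomLib.Local
import Mathlib.AlgebraicGeometry.Morphisms.Finite

/-!
# Pseudo-coherent morphisms of schemes
-/

set_option autoImplicit false
set_option linter.style.haveILetI false
set_option backward.isDefEq.respectTransparency false

universe u

open CategoryTheory AlgebraicGeometry
attribute [local instance] HasDerivedCategory.standard

noncomputable section

namespace Groth.Agent.PCHomLib

open Groth.Agent.DRingLib

variable {A B : Type u} [CommRing A] [CommRing B]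

/-- A monic polynomial gives a free pseudo-coherent extension. -/
theorem pcMap_adjoinRoot (p : Polynomial A) (hp : p.Monic) :
    PCMap (algebraMap A (AdjoinRoot p)) ∧ PCHom (algebraMap A (AdjoinRoot p)) := by
  refine ⟨pcMap_algebraMap_iff.mpr ((isPseudoCoherent'_iff _).mpr fun m => ?_), ?_⟩
  · exact (perf_inD projClass_fFree (M := ModuleCat.of A (AdjoinRoot p))
      ⟨hp.finite_adjoinRoot, hp.free_adjoinRoot⟩).pc m
  · have h : PCMap (AdjoinRoot.mk p) := by
      refine pcMap_of_ker_eq_span _ AdjoinRoot.mk_surjective p (fun x hx => ?_) ?_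
      · exact hp.mul_right_eq_zero_iff.mp hx
      · ext x
        rw [RingHom.mem_ker, AdjoinRoot.mk_eq_zero, Ideal.mem_span_singleton]
    let e := (MvPolynomial.uniqueAlgEquiv A PUnit.{1}).toRingEquiv
    have := pcHom_of_pcMap ((AdjoinRoot.mk p).comp e.toRingHom)
      (AdjoinRoot.mk_surjective.comp e.surjective) ((pcMap_of_bijective e.toRingHom e.bijective).comp h)
    rwa [show ((AdjoinRoot.mk p).comp e.toRingHom).comp MvPolynomial.C = algebraMap A (AdjoinRoot p) from
      RingHom.ext fun a => by simp [e]] at this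

theorem pcHom_iff_pcMap_of_surjective (f : A →+* B) (hf : Function.Surjective f) :
    PCHom f ↔ PCMap f := by
  have hb : Function.Bijective (MvPolynomial.eval (Fin.elim0 : Fin 0 → A)) := by
    refine ⟨fun p q h => ?_, fun a => ⟨MvPolynomial.C a, by simp⟩⟩
    obtain ⟨a, rfl⟩ := MvPolynomial.C_surjective (Fin 0) p
    obtain ⟨b, rfl⟩ := MvPolynomial.C_surjective (Fin 0) q
    simp at h
    rw [h]
  refine ⟨fun h => (pcMap_of_bijective _ hb).of_comp (h.pcMap (f.comp (MvPolynomial.eval Fin.elim0))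
    (hf.comp hb.2) (RingHom.ext fun a => by simp)), fun h => ?_⟩
  exact ⟨0, f.comp (MvPolynomial.eval Fin.elim0), hf.comp hb.2, RingHom.ext fun a => by simp,
    (pcMap_of_bijective _ hb).comp h⟩

theorem pcHom_iff_pcMap_aux : ∀ (n : ℕ) (A B : Type u) [CommRing A] [CommRing B] (f : A →+* B)
    (x : Fin n → B), (∀ i, f.IsIntegralElem (x i)) → Function.Surjective (MvPolynomial.eval₂Hom f x) →
    (PCHom f ↔ PCMap f)
  | 0, A, B, _, _, f, x, _, hs => by
    refine pcHom_iff_pcMap_of_surjective f fun b => ?_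
    obtain ⟨p, rfl⟩ := hs b
    obtain ⟨a, rfl⟩ := MvPolynomial.C_surjective (Fin 0) p
    exact ⟨a, by simp⟩
  | n + 1, A, B, _, _, f, x, hx, hs => by
    obtain ⟨p, hp, hp0⟩ := hx 0
    obtain ⟨h1, h2⟩ := pcMap_adjoinRoot p hp
    let g : AdjoinRoot p →+* B := AdjoinRoot.lift f (x 0) hp0
    have hg : g.comp (algebraMap A (AdjoinRoot p)) = f := RingHom.ext fun a => AdjoinRoot.lift_of hp0
    have key := pcHom_iff_pcMap_aux n (AdjoinRoot p) B g (x ∘ Fin.succ) (fun i => ?_) ?_
    · rw [← hg]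
      exact ⟨fun h => h1.comp (key.mp (h2.of_comp h)), fun h => h2.comp (key.mpr (h1.of_comp h))⟩
    · obtain ⟨q, hq, hq0⟩ := hx i.succ
      refine ⟨q.map (algebraMap A (AdjoinRoot p)), hq.map _, ?_⟩
      rw [Polynomial.eval₂_map, hg]
      exact hq0
    · intro b
      obtain ⟨r, rfl⟩ := hs b
      refine ⟨MvPolynomial.eval₂Hom (MvPolynomial.C.comp (algebraMap A (AdjoinRoot p)))
        (Fin.cases (MvPolynomial.C (AdjoinRoot.root p)) MvPolynomial.X) r, ?_⟩
      refine RingHom.congr_fun (f := (MvPolynomial.eval₂Hom g (x ∘ Fin.succ)).comp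
        (MvPolynomial.eval₂Hom _ _)) ?_ r
      refine MvPolynomial.ringHom_ext (fun a => ?_) fun i => ?_
      · simpa using RingHom.congr_fun hg a
      · cases i using Fin.cases <;> simp [g]

/-- For a finite map the two notions of pseudo-coherence agree. -/
theorem pcHom_iff_pcMap_of_finite (f : A →+* B) (hf : f.Finite) : PCHom f ↔ PCMap f := by
  letI := f.toAlgebra
  haveI : Module.Finite A B := hf
  obtain ⟨n, φ, hφ⟩ := Algebra.FiniteType.iff_quotient_mvPolynomial''.mp
    (inferInstance : Algebra.FiniteType A B)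
  refine pcHom_iff_pcMap_aux n A B f (fun i => φ (MvPolynomial.X i))
    (fun i => (Algebra.IsIntegral.isIntegral (R := A) _)) ?_
  rw [show MvPolynomial.eval₂Hom f (fun i => φ (MvPolynomial.X i)) = φ.toRingHom from
    MvPolynomial.ringHom_ext (fun a => by simp; rfl) fun i => by simp]
  exact hφ

/-- Pseudo-coherence of morphisms is a property of ring maps on affine opens. -/
instance hasRingHomProperty_isPseudoCoherentMor :
    HasRingHomProperty (fun {X Y : Scheme.{u}} (f : X ⟶ Y) => MoreMor.IsPseudoCoherentMor f)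
      (fun {R S : Type u} [CommRing R] [CommRing S] (f : R →+* S) => PCHom f) where
  isLocal_ringHomProperty := pcHom_isLocal
  eq_affineLocally' := by
    ext X Y f
    rw [affineLocally_iff_forall_isAffineOpen]
    refine ⟨fun h U hU V hV e => ?_, fun h U V hU hV e => ?_⟩
    · letI := (f.appLE U V e).hom.toAlgebra
      exact isPseudoCoherentHom_iff.mp (h V U hV hU e)
    · letI := (f.appLE V U e).hom.toAlgebra
      exact isPseudoCoherentHom_iff.mpr (h hV hU e)

end Groth.Agent.PCHomLib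

namespace Groth.Agent.PCHomLib

variable {X Y Z : Scheme.{u}} (f : X ⟶ Y) (g : Y ⟶ Z)

theorem pc_stableUnderComposition :
    RingHom.StableUnderComposition
      (fun {R S : Type u} [CommRing R] [CommRing S] (f : R →+* S) => PCHom f) :=
  fun _ _ _ _ _ _ _ _ hf hg => hf.comp hg

theorem isPseudoCoherentMor_comp (hf : MoreMor.IsPseudoCoherentMor f) (hg : MoreMor.IsPseudoCoherentMor g) :
    MoreMor.IsPseudoCoherentMor (f ≫ g) :=
  (HasRingHomProperty.stableUnderComposition
    (P := fun {X Y : Scheme.{u}} (f : X ⟶ Y) => MoreMor.IsPseudoCoherentMor f)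
    pc_stableUnderComposition).comp_mem f g hf hg

theorem isPseudoCoherentMor_of_comp (h : MoreMor.IsPseudoCoherentMor (f ≫ g))
    (hg : MoreMor.IsPseudoCoherentMor g) : MoreMor.IsPseudoCoherentMor f := by
  refine (HasRingHomProperty.iff_exists_appLE
    (P := fun {X Y : Scheme.{u}} (f : X ⟶ Y) => MoreMor.IsPseudoCoherentMor f)
    pcHom_sourceAway (f := f)).mpr fun x => ?_
  obtain ⟨_, ⟨W : Z.Opens, (hW : IsAffineOpen W), rfl⟩, hxW, -⟩ :=
    Z.isBasis_affineOpens.exists_subset_of_mem_open (Set.mem_univ (g (f x))) isOpen_univ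
  obtain ⟨_, ⟨V : Y.Opens, (hV : IsAffineOpen V), rfl⟩, hxV, hVW⟩ :=
    Y.isBasis_affineOpens.exists_subset_of_mem_open (a := f x) (u := ↑(g ⁻¹ᵁ W)) hxW (g ⁻¹ᵁ W).2
  obtain ⟨_, ⟨U : X.Opens, (hU : IsAffineOpen U), rfl⟩, hxU, hUV⟩ :=
    X.isBasis_affineOpens.exists_subset_of_mem_open (a := x) (u := ↑(f ⁻¹ᵁ V)) hxV (f ⁻¹ᵁ V).2
  refine ⟨⟨V, hV⟩, ⟨U, hU⟩, hxU, hUV, ?_⟩
  have h1 : PCHom (g.appLE W V hVW).hom :=
    (HasRingHomProperty.iff_appLE
      (P := fun {X Y : Scheme.{u}} (f : X ⟶ Y) => MoreMor.IsPseudoCoherentMor f)).mp hg ⟨W, hW⟩ ⟨V, hV⟩ hVW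
  refine h1.of_comp ?_
  rw [← CommRingCat.hom_comp, Scheme.Hom.appLE_comp_appLE]
  exact (HasRingHomProperty.iff_appLE
    (P := fun {X Y : Scheme.{u}} (f : X ⟶ Y) => MoreMor.IsPseudoCoherentMor f)).mp h ⟨W, hW⟩ ⟨U, hU⟩ _

theorem isPseudoCoherentMor_iff_of_isFinite [IsFinite f] :
    MoreMor.IsPseudoCoherentMor f ↔ ∀ (V : Y.Opens), IsAffineOpen V →
      (letI := (f.app V).hom.toAlgebra
       DRing.IsPseudoCoherentModule' Γ(Y, V) Γ(X, f ⁻¹ᵁ V)) := by
  have key : ∀ V : Y.Opens, IsAffineOpen V → ((letI := (f.app V).hom.toAlgebra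
      DRing.IsPseudoCoherentModule' Γ(Y, V) Γ(X, f ⁻¹ᵁ V)) ↔ PCHom (f.app V).hom) := by
    intro V hV
    letI := (f.app V).hom.toAlgebra
    exact DRingLib.pcMap_algebraMap_iff.symm.trans (pcHom_iff_pcMap_of_finite _ (f.finite_app V hV)).symm
  constructor
  · intro h V hV
    refine (key V hV).mpr ?_
    have := (HasRingHomProperty.iff_appLE
      (P := fun {X Y : Scheme.{u}} (f : X ⟶ Y) => MoreMor.IsPseudoCoherentMor f)).mp h ⟨V, hV⟩
      ⟨f ⁻¹ᵁ V, hV.preimage f⟩ le_rfl
    rwa [Scheme.Hom.appLE_eq_app] at this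
  · intro h
    refine (HasRingHomProperty.iff_exists_appLE
      (P := fun {X Y : Scheme.{u}} (f : X ⟶ Y) => MoreMor.IsPseudoCoherentMor f)
      pcHom_sourceAway (f := f)).mpr fun x => ?_
    obtain ⟨_, ⟨V : Y.Opens, (hV : IsAffineOpen V), rfl⟩, hxV, -⟩ :=
      Y.isBasis_affineOpens.exists_subset_of_mem_open (Set.mem_univ (f x)) isOpen_univ
    refine ⟨⟨V, hV⟩, ⟨f ⁻¹ᵁ V, hV.preimage f⟩, hxV, le_rfl, ?_⟩
    rw [Scheme.Hom.appLE_eq_app]
    exact (key V hV).mp (h V hV)

end Groth.Agent.PCHomLib
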