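import Groth.Agent.PCHomLib.BaseChange
import Groth.Agent.PCHomLib.Scheme
import Groth.Agent.PullbackMod.Flat
import Mathlib.AlgebraicGeometry.Morphisms.FlatDescent

/-!
# Flat base change and fpqc descent of pseudo-coherent morphisms
-/

set_option autoImplicit false
set_option linter.style.haveILetI false
set_option backward.isDefEq.respectTransparency false

universe u

open CategoryTheory Limits AlgebraicGeometry TensorProduct
attribute [local instance] HasDerivedCategory.standard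

noncomputable section

namespace Groth.Agent.PCHomLib

theorem pcHom_of_isPushout {R R' S S' : Type u} [CommRing R] [CommRing R'] [CommRing S]
    [CommRing S'] [Algebra R R'] [Algebra R S] [Algebra R' S'] [Algebra S S'] [Algebra R S']
    [IsScalarTower R R' S'] [IsScalarTower R S S'] [Algebra.IsPushout R R' S S']
    [Module.Flat R R'] (h : PCHom (algebraMap R S)) : PCHom (algebraMap R' S') := by
  let e := Algebra.IsPushout.equiv R R' S S'
  have := (pcHom_baseChange (R' := R') h).comp (pcHom_of_bijective e.toRingEquiv.toRingHom e.bijective)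
  rwa [show e.toRingEquiv.toRingHom.comp (algebraMap R' (R' ⊗[R] S)) = algebraMap R' S' from
    RingHom.ext fun r => e.commutes r] at this

theorem isPseudoCoherentMor_of_flat_baseChange {X S X' S' : Scheme.{u}} {f : X ⟶ S}
    {f' : X' ⟶ S'} {g' : X' ⟶ X} {g : S' ⟶ S} [Flat g] (hc : IsPullback g' f' f g)
    (hf : MoreMor.IsPseudoCoherentMor f) : MoreMor.IsPseudoCoherentMor f' := by
  rw [HasRingHomProperty.iff_exists_appLE (P := fun {X Y : Scheme.{u}} (f : X ⟶ Y) =>
    MoreMor.IsPseudoCoherentMor f) pcHom_sourceAway]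
  intro x
  obtain ⟨V, W, V', hV, hW, hV', e, e', hxW, hxV'⟩ := PullbackMod.exists_affines hc x
  obtain ⟨hW', hpo⟩ := PullbackMod.isPushout_appLE hc hV hW hV' e e'
  refine ⟨⟨V', hV'⟩, ⟨g' ⁻¹ᵁ W ⊓ f' ⁻¹ᵁ V', hW'⟩, ⟨hxW, hxV'⟩, inf_le_right, ?_⟩
  let W' := g' ⁻¹ᵁ W ⊓ f' ⁻¹ᵁ V'
  letI : Algebra Γ(S, V) Γ(X, W) := (f.appLE V W e).hom.toAlgebra
  letI : Algebra Γ(S, V) Γ(S', V') := (g.appLE V V' e').hom.toAlgebra
  letI : Algebra Γ(X, W) Γ(X', W') := (g'.appLE W W' inf_le_left).hom.toAlgebra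
  letI : Algebra Γ(S', V') Γ(X', W') := (f'.appLE V' W' inf_le_right).hom.toAlgebra
  letI : Algebra Γ(S, V) Γ(X', W') :=
    ((g'.appLE W W' inf_le_left).hom.comp (f.appLE V W e).hom).toAlgebra
  haveI : IsScalarTower Γ(S, V) Γ(X, W) Γ(X', W') := .of_algebraMap_eq fun _ => rfl
  haveI : IsScalarTower Γ(S, V) Γ(S', V') Γ(X', W') := .of_algebraMap_eq' (by
      show ((f.appLE V W e) ≫ g'.appLE W _ inf_le_left).hom =
        ((g.appLE V V' e') ≫ f'.appLE V' _ inf_le_right).hom
      simp only [Scheme.Hom.appLE_comp_appLE, hc.w])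
  haveI : Algebra.IsPushout Γ(S, V) Γ(S', V') Γ(X, W) Γ(X', W') := hpo
  haveI : Module.Flat Γ(S, V) Γ(S', V') :=
    HasRingHomProperty.appLE (P := @Flat) g ‹_› ⟨V, hV⟩ ⟨V', hV'⟩ e'
  exact pcHom_of_isPushout (R := Γ(S, V)) (R' := Γ(S', V')) (S := Γ(X, W)) (S' := Γ(X', W'))
    (HasRingHomProperty.appLE (P := fun {X Y : Scheme.{u}} (f : X ⟶ Y) =>
      MoreMor.IsPseudoCoherentMor f) f hf ⟨V, hV⟩ ⟨W, hW⟩ e)

theorem pc_codescendsAlong :
    RingHom.CodescendsAlong (fun {R S : Type u} [CommRing R] [CommRing S] (f : R →+* S) => PCHom f)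
      RingHom.FaithfullyFlat := by
  refine .mk _ pcHom_isLocal.respectsIso fun R S T _ _ _ _ _ h h' => ?_
  rw [RingHom.faithfullyFlat_algebraMap_iff] at h
  exact pcHom_of_baseChange (R' := S) h'

/-- Pseudo-coherence descends along flat surjective quasi-compact morphisms. -/
theorem isPseudoCoherentMor_descendsAlong :
    MorphismProperty.DescendsAlong (fun {X Y : Scheme.{u}} (f : X ⟶ Y) =>
      MoreMor.IsPseudoCoherentMor f) (@Surjective ⊓ @Flat ⊓ @QuasiCompact) := by
  let P : MorphismProperty Scheme.{u} := fun {X Y : Scheme.{u}} (f : X ⟶ Y) =>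
    MoreMor.IsPseudoCoherentMor f
  apply IsZariskiLocalAtTarget.descendsAlong
  intro R X Y f g hf h
  wlog hX : ∃ T, X = Spec T generalizing X
  · have _ : CompactSpace X := by simpa [← quasiCompact_iff_compactSpace f] using hf.2
    obtain ⟨Y', p, hsurj, hp, hY⟩ := X.exists_hom_isAffine_of_isZariskiLocalAtSource @IsLocalIso
    haveI hpf : Flat p := (IsLocalIso.le_of_isZariskiLocalAtSource @Flat) _ _ p hp
    have hQ : Flat ((Y'.isoSpec.inv ≫ p) ≫ f) := by
      haveI := hf.1.2
      infer_instance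
    refine this ((Y'.isoSpec.inv ≫ p) ≫ f) ?_ ?_ ⟨_, rfl⟩
    · refine ⟨⟨?_, hQ⟩, ?_⟩
      · haveI := hf.1.1
        infer_instance
      · haveI := hf.2
        infer_instance
    · show P _
      rw [← pullbackRightPullbackFstIso_inv_fst f g _, P.cancel_left_of_respectsIso]
      haveI : Flat (Y'.isoSpec.inv ≫ p) := inferInstance
      exact isPseudoCoherentMor_of_flat_baseChange (IsPullback.of_hasPullback _ _).flip h
  obtain ⟨T, rfl⟩ := hX
  obtain ⟨φ, rfl⟩ := Spec.map_surjective f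
  wlog hY : ∃ S, Y = Spec S generalizing Y
  · show P g
    rw [IsZariskiLocalAtSource.iff_of_openCover (P := P) Y.affineCover]
    intro i
    have heq : pullback.fst (Spec.map φ) (Y.affineCover.f i ≫ g) =
        pullback.map _ _ _ _ (𝟙 _) (Y.affineCover.f i) (𝟙 _) (by simp) (by simp) ≫
          pullback.fst (Spec.map φ) g := (pullback.lift_fst _ _ _).symm
    exact this _ (heq ▸ AlgebraicGeometry.IsZariskiLocalAtSource.comp h _) ⟨_, rfl⟩
  obtain ⟨S, rfl⟩ := hY
  refine AlgebraicGeometry.of_pullback_fst_Spec_of_codescendsAlong P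
    (@Surjective ⊓ @Flat ⊓ @QuasiCompact) pc_codescendsAlong ?_ ?_ hf h
  · intro R S f hf'
    rw [RingHom.FaithfullyFlat.iff_flat_and_comap_surjective]
    exact ⟨(HasRingHomProperty.Spec_iff (P := @Flat)).mp hf'.1.2, hf'.1.1.1⟩
  · intro R S f
    exact HasRingHomProperty.Spec_iff (P := P)

end Groth.Agent.PCHomLib
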