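import Groth.Agent.PCHomLib.Local
import Groth.Agent.DRingLib.FFDescent
import Mathlib.RingTheory.Finiteness.Descent

/-!
# Base change and descent of pseudo-coherent ring maps
-/

set_option autoImplicit false
set_option linter.style.haveILetI false
set_option backward.isDefEq.respectTransparency false

universe u

open CategoryTheory TensorProduct
attribute [local instance] HasDerivedCategory.standard

noncomputable section

namespace Groth.Agent.PCHomLib

open Groth.Agent.DRingLib

section Module

variable {P P' S S' : Type u} [CommRing P] [CommRing P'] [CommRing S] [CommRing S']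
  [Algebra P P'] [Algebra P S] [Algebra P' S'] [Algebra S S'] [Algebra P S']
  [IsScalarTower P P' S'] [IsScalarTower P S S'] [hpo : Algebra.IsPushout P P' S S']

theorem pc_inD_tensor [DRing.HasLBaseChange (algebraMap P P')] [Module.Flat P P'] {m : ℤ} :
    PC FFree m ((DRing.LBaseChange (algebraMap P P')).obj (Dual.inD P S)) ↔
      PC FFree m (Dual.inD P' S') := by
  have e1 := lbcInDIso (algebraMap P P') (flat_baseMod P P') (ModuleCat.of P S)
  let l := (extendScalarsTensorEquiv P P' S).trans hpo.out.equiv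
  exact ⟨fun h => pc_inD_congr l (h.of_iso e1), fun h => (pc_inD_congr l.symm h).of_iso e1.symm⟩

theorem pcMap_baseChange [Module.Flat P P'] (h : PCMap (algebraMap P S)) :
    PCMap (algebraMap P' S') := by
  haveI := hasLBaseChange (algebraMap P P')
  refine pcMap_algebraMap_iff.mpr ((isPseudoCoherent'_iff _).mpr fun m => ?_)
  exact (pc_inD_tensor (S := S)).mp
    (pc_lbc (algebraMap P P') ((isPseudoCoherent'_iff _).mp (pcMap_algebraMap_iff.mp h) m))

theorem pcMap_of_baseChange [Module.FaithfullyFlat P P'] (h : PCMap (algebraMap P' S')) :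
    PCMap (algebraMap P S) := by
  haveI := hasLBaseChange (algebraMap P P')
  haveI : ∀ _ : Unit, DRing.HasLBaseChange (algebraMap P P') := fun _ => inferInstance
  refine pcMap_algebraMap_iff.mpr ((isPseudoCoherent'_iff _).mpr fun m => ?_)
  exact (ffFamily_single (A := P) (B := P')).pc _ fun _ =>
    (pc_inD_tensor (S' := S')).mpr ((isPseudoCoherent'_iff _).mp (pcMap_algebraMap_iff.mp h) m)

end Module

section General

variable {R R' S S' P P' : Type u} [CommRing R] [CommRing R'] [CommRing S] [CommRing S'] [CommRing P]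
  [CommRing P'] [Algebra R R'] [Algebra R S] [Algebra R P] [Algebra R S'] [Algebra R P']
  [Algebra R' P'] [Algebra R' S'] [Algebra P P'] [Algebra P S] [Algebra S S'] [Algebra P' S'] [Algebra P S']
  [IsScalarTower R P S] [IsScalarTower R S S'] [IsScalarTower R R' S'] [IsScalarTower R R' P']
  [IsScalarTower R P P'] [IsScalarTower R P' S'] [IsScalarTower R' P' S'] [IsScalarTower P P' S']
  [IsScalarTower P S S'] [Algebra.IsPushout R P R' P'] [Algebra.IsPushout R S R' S']

theorem pcMap_right [Module.Flat R R'] (h : PCMap (algebraMap P S)) : PCMap (algebraMap P' S') := by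
  haveI : Algebra.IsPushout P P' S S' :=
    ((Algebra.IsPushout.comp_iff (R := R) (S := P) (T := S) (R' := R') (S' := P') (T' := S')).mp
      inferInstance).symm
  haveI : Module.Flat P P' := Module.Flat.isBaseChange R P R' P' (Algebra.IsPushout.out (R := R) (S := P) (R' := R') (S' := P'))
  exact pcMap_baseChange (P := P) (P' := P') (S := S) h

theorem pcMap_left [Module.FaithfullyFlat R R'] (h : PCMap (algebraMap P' S')) : PCMap (algebraMap P S) := by
  haveI : Algebra.IsPushout P P' S S' :=
    ((Algebra.IsPushout.comp_iff (R := R) (S := P) (T := S) (R' := R') (S' := P') (T' := S')).mp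
      inferInstance).symm
  haveI : Module.FaithfullyFlat P P' := .of_linearEquiv P (P ⊗[R] R')
    (Algebra.IsPushout.out (R := R) (S := P) (R' := R') (S' := P')).equiv.symm
  exact pcMap_of_baseChange (P' := P') (S' := S') h

end General

variable {R R' S : Type u} [CommRing R] [CommRing R'] [CommRing S] [Algebra R R'] [Algebra R S]

attribute [local instance] MvPolynomial.algebraMvPolynomial in
/-- The presentation after base change. -/
theorem exists_baseChange_presentation {n : ℕ} (φ : MvPolynomial (Fin n) R →ₐ[R] S)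
    (hφ : Function.Surjective φ) :
    ∃ φ' : MvPolynomial (Fin n) R' →+* R' ⊗[R] S, Function.Surjective φ' ∧
      φ'.comp MvPolynomial.C = algebraMap R' (R' ⊗[R] S) ∧
      (Module.Flat R R' → PCMap φ.toRingHom → PCMap φ') ∧
      (Module.FaithfullyFlat R R' → PCMap φ' → PCMap φ.toRingHom) := by
  let φ' : MvPolynomial (Fin n) R' →+* R' ⊗[R] S :=
    MvPolynomial.eval₂Hom (algebraMap R' (R' ⊗[R] S)) fun i => (1 : R') ⊗ₜ[R] φ (MvPolynomial.X i)
  have hmap : φ'.comp (MvPolynomial.map (algebraMap R R')) =
      (Algebra.TensorProduct.includeRight : S →ₐ[R] R' ⊗[R] S).toRingHom.comp φ.toRingHom := by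
    refine MvPolynomial.ringHom_ext (fun r => ?_) fun i => ?_
    · simp [φ', Algebra.algebraMap_eq_smul_one, TensorProduct.smul_tmul']
      rfl
    · simp [φ']
  refine ⟨φ', fun y => ?_, MvPolynomial.eval₂Hom_comp_C _ _, ?_⟩
  · induction y with
    | zero => exact ⟨0, map_zero _⟩
    | tmul r s =>
      obtain ⟨p, rfl⟩ := hφ s
      refine ⟨MvPolynomial.C r * MvPolynomial.map (algebraMap R R') p, ?_⟩
      rw [map_mul, show φ' (MvPolynomial.map (algebraMap R R') p) = (1 : R') ⊗ₜ[R] φ p from
        RingHom.congr_fun hmap p]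
      simp [φ']
    | add x y hx hy =>
      obtain ⟨a, rfl⟩ := hx
      obtain ⟨b, rfl⟩ := hy
      exact ⟨a + b, map_add _ _ _⟩
  letI : Algebra (MvPolynomial (Fin n) R) S := φ.toRingHom.toAlgebra
  haveI : IsScalarTower R (MvPolynomial (Fin n) R) S := .of_algebraMap_eq fun r => (φ.commutes r).symm
  letI : Algebra (MvPolynomial (Fin n) R') (R' ⊗[R] S) := φ'.toAlgebra
  letI algS : Algebra S (R' ⊗[R] S) := Algebra.TensorProduct.rightAlgebra
  letI : Algebra (MvPolynomial (Fin n) R) (R' ⊗[R] S) :=
    ((algebraMap S (R' ⊗[R] S)).comp φ.toRingHom).toAlgebra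
  haveI : IsScalarTower (MvPolynomial (Fin n) R) S (R' ⊗[R] S) := .of_algebraMap_eq fun _ => rfl
  haveI : IsScalarTower (MvPolynomial (Fin n) R) (MvPolynomial (Fin n) R') (R' ⊗[R] S) :=
    .of_algebraMap_eq fun p => (RingHom.congr_fun hmap p).symm
  haveI : IsScalarTower R' (MvPolynomial (Fin n) R') (R' ⊗[R] S) :=
    .of_algebraMap_eq fun r => (MvPolynomial.eval₂Hom_C _ _ r).symm
  haveI : IsScalarTower R (MvPolynomial (Fin n) R') (R' ⊗[R] S) :=
    IsScalarTower.of_algebraMap_eq fun r => by
      rw [IsScalarTower.algebraMap_apply R R' (R' ⊗[R] S), IsScalarTower.algebraMap_apply R R' (MvPolynomial (Fin n) R'),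
        ← IsScalarTower.algebraMap_apply R' (MvPolynomial (Fin n) R') (R' ⊗[R] S)]
  haveI : Algebra.IsPushout R (MvPolynomial (Fin n) R) R' (MvPolynomial (Fin n) R') := inferInstance
  haveI : Algebra.IsPushout R S R' (R' ⊗[R] S) := inferInstance
  exact ⟨fun hflat h => pcMap_right (R := R) (R' := R') (P := MvPolynomial (Fin n) R) (S := S) h,
    fun hff h => pcMap_left (R := R) (R' := R') (P' := MvPolynomial (Fin n) R') (S' := R' ⊗[R] S) h⟩

theorem pcHom_baseChange [Module.Flat R R'] (h : PCHom (algebraMap R S)) :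
    PCHom (algebraMap R' (R' ⊗[R] S)) := by
  obtain ⟨n, φ, hφ, hc, hp⟩ := h
  obtain ⟨φ', h1, h2, h3, -⟩ := exists_baseChange_presentation (R' := R')
    { φ with commutes' := fun r => RingHom.congr_fun hc r } hφ
  exact ⟨n, φ', h1, h2, h3 inferInstance hp⟩

theorem pcHom_of_baseChange [Module.FaithfullyFlat R R'] (h : PCHom (algebraMap R' (R' ⊗[R] S))) :
    PCHom (algebraMap R S) := by
  have hft : Algebra.FiniteType R' (R' ⊗[R] S) := RingHom.finiteType_algebraMap.mp h.finiteType
  obtain ⟨n, φ, hφ⟩ := Algebra.FiniteType.iff_quotient_mvPolynomial''.mp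
    (Algebra.FiniteType.of_finiteType_tensorProduct_of_faithfullyFlat (R := R) (S := S) R')
  obtain ⟨φ', h1, h2, -, h4⟩ := exists_baseChange_presentation (R' := R') φ hφ
  exact ⟨n, φ.toRingHom, hφ, φ.comp_algebraMap, h4 inferInstance (h.pcMap φ' h1 h2)⟩

end Groth.Agent.PCHomLib
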