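import Groth.Agent.PCHomLib.RelFinite
import Groth.Agent.PCHomLib.BaseChange

/-!
# Relative pseudo-coherence and flat base change
-/

set_option autoImplicit false
set_option linter.style.haveILetI false
set_option backward.isDefEq.respectTransparency false

universe u

open CategoryTheory Limits TensorProduct
attribute [local instance] HasDerivedCategory.standard

noncomputable section

namespace Groth.Agent.PCHomLib

open Groth.Agent.DRingLib Groth.Agent.DCohLib Groth.Agent.DTenLib

section Pushout

variable (P P' A A' : Type u) [CommRing P] [CommRing P'] [CommRing A] [CommRing A'] [Algebra P P']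
  [Algebra P A] [Algebra A A'] [Algebra P' A'] [Algebra P A'] [IsScalarTower P P' A']
  [IsScalarTower P A A'] [Algebra.IsPushout P P' A A']

/-- Restriction commutes with extension in a cocartesian square, on objects. -/
def pushoutExtendEquiv (M : ModuleCat.{u} A) :
    (ModuleCat.extendScalars.{u, u, u} (algebraMap P P')).obj
        ((ModuleCat.restrictScalars.{u} (algebraMap P A)).obj M) ≃ₗ[P']
      (ModuleCat.restrictScalars.{u} (algebraMap P' A')).obj
        ((ModuleCat.extendScalars.{u, u, u} (algebraMap A A')).obj M) :=
  letI : Module P M := Module.compHom _ (algebraMap P A)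
  haveI : IsScalarTower P A M := .of_algebraMap_smul fun _ _ => rfl
  let T1 := extendScalarsTensorEquiv P P' M
  let T2 := extendScalarsTensorEquiv A A' M
  let c := Algebra.IsPushout.cancelBaseChange P P' A A' M
  { (T1.toAddEquiv.trans (c.symm.toAddEquiv.trans T2.symm.toAddEquiv)) with
    map_smul' := fun r x => by
      show T2.symm (c.symm (T1 (r • x))) = algebraMap P' A' r • T2.symm (c.symm (T1 x))
      exact (congrArg (fun z => T2.symm (c.symm z)) (T1.map_smul r x)).trans
        ((congrArg T2.symm ((c.symm.map_smul r _).trans (algebraMap_smul A' r _).symm)).trans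
          (T2.symm.map_smul _ _)) }

/-- Restriction commutes with extension in a cocartesian square. -/
def pushoutExtendIso :
    ModuleCat.restrictScalars.{u} (algebraMap P A) ⋙ ModuleCat.extendScalars.{u, u, u} (algebraMap P P') ≅
      ModuleCat.extendScalars.{u, u, u} (algebraMap A A') ⋙ ModuleCat.restrictScalars.{u} (algebraMap P' A') :=
  NatIso.ofComponents (fun M => (pushoutExtendEquiv P P' A A' M).toModuleIso) fun {M N} g => by
    refine ModuleCat.hom_ext (LinearMap.ext fun x => ?_)
    refine TensorProduct.induction_on x ?_ (fun b m => ?_) (fun a b ha hb => ?_)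
    · exact (map_zero _).trans (map_zero _).symm
    · letI : Module P M := Module.compHom _ (algebraMap P A)
      letI : Module P N := Module.compHom _ (algebraMap P A)
      haveI : IsScalarTower P A M := .of_algebraMap_smul fun _ _ => rfl
      haveI : IsScalarTower P A N := .of_algebraMap_smul fun _ _ => rfl
      let cM := Algebra.IsPushout.cancelBaseChange P P' A A' M
      let cN := Algebra.IsPushout.cancelBaseChange P P' A A' N
      have hM : ∀ (r : P') (y : M), cM.symm (r ⊗ₜ y) = algebraMap P' A' r ⊗ₜ y := fun r y =>
        Algebra.IsPushout.cancelBaseChangeAux_symm_tmul P P' A A' M r y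
      have hN : ∀ (r : P') (y : N), cN.symm (r ⊗ₜ y) = algebraMap P' A' r ⊗ₜ y := fun r y =>
        Algebra.IsPushout.cancelBaseChangeAux_symm_tmul P P' A A' N r y
      let TN := extendScalarsTensorEquiv A A' N
      let TM := extendScalarsTensorEquiv A A' M
      show TN.symm (cN.symm (b ⊗ₜ g.hom m)) =
        ((ModuleCat.extendScalars.{u, u, u} (algebraMap A A')).map g).hom (TM.symm (cM.symm (b ⊗ₜ m)))
      rw [hN, hM]
      rfl
    · exact (map_add _ a b).trans ((congrArg₂ (· + ·) ha hb).trans (map_add _ a b).symm)

theorem nonempty_lbc_restrict [Module.Flat P P'] [DRing.HasLBaseChange (algebraMap P P')] (E : DRing.Cx A) :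
    Nonempty ((DRing.LBaseChange (algebraMap P P')).obj
        ((DRing.restrictD (algebraMap P A)).obj (DRing.toD E)) ≅
      (DRing.restrictD (algebraMap P' A')).obj (DRing.toD
        (((ModuleCat.extendScalars.{u, u, u} (algebraMap A A')).mapHomologicalComplex (ComplexShape.up ℤ)).obj E))) := by
  let c := ComplexShape.up ℤ
  let F := ModuleCat.restrictScalars.{u} (algebraMap P A)
  let H := ModuleCat.restrictScalars.{u} (algebraMap P' A')
  exact ⟨(DRing.LBaseChange (algebraMap P P')).mapIso (F.mapDerivedCategoryFactors.app E) ≪≫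
    lbcIsoOfFlat (algebraMap P P') (flat_baseMod P P') ((F.mapHomologicalComplex c).obj E) ≪≫
    DerivedCategory.Q.mapIso ((NatIso.mapHomologicalComplex (pushoutExtendIso P P' A A') c).app E) ≪≫
    (H.mapDerivedCategoryFactors.app
      (((ModuleCat.extendScalars.{u, u, u} (algebraMap A A')).mapHomologicalComplex c).obj E)).symm⟩

end Pushout

variable {R A : Type u} [CommRing R] [CommRing A] [Algebra R A]

/-- The square of a localization of a presentation. -/
theorem rel_away_key {n : ℕ} (φ : MvPolynomial (Fin n) R →+* A) (hφ : Function.Surjective φ)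
    (hc : φ.comp MvPolynomial.C = algebraMap R A) (G : MvPolynomial (Fin n) R) (g : A) (hg : φ G = g)
    (K : DRing.Cx A) (m : ℤ) [DRing.HasLBaseChange (algebraMap (MvPolynomial (Fin n) R) (Localization.Away G))] :
    PC FFree m ((DRing.LBaseChange (algebraMap (MvPolynomial (Fin n) R) (Localization.Away G))).obj
        ((DRing.restrictD φ).obj (DRing.toD K))) ↔
      DerCA.IsRelPseudoCoherent R (Localization.Away g) m
        (DRing.toD (((ModuleCat.extendScalars.{u, u, u} (algebraMap A (Localization.Away g))).mapHomologicalComplex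
          (ComplexShape.up ℤ)).obj K)) := by
  subst hg
  let θ := IsLocalization.Away.map (Localization.Away G) (Localization.Away (φ G)) φ G
  letI : Algebra (MvPolynomial (Fin n) R) A := φ.toAlgebra
  letI : Algebra (Localization.Away G) (Localization.Away (φ G)) := θ.toAlgebra
  haveI : IsScalarTower (MvPolynomial (Fin n) R) (Localization.Away G) (Localization.Away (φ G)) :=
    .of_algebraMap_eq fun p => by
      rw [IsScalarTower.algebraMap_apply (MvPolynomial (Fin n) R) A (Localization.Away (φ G)) p]
      show _ = θ _
      simp only [θ, IsLocalization.Away.map, IsLocalization.map_eq]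
      rfl
  haveI : IsLocalization (Algebra.algebraMapSubmonoid A (Submonoid.powers G)) (Localization.Away (φ G)) := by
    rw [Algebra.algebraMapSubmonoid_powers]
    exact inferInstanceAs (IsLocalization.Away (φ G) _)
  haveI : Algebra.IsPushout (MvPolynomial (Fin n) R) (Localization.Away G) A (Localization.Away (φ G)) :=
    (Algebra.isPushout_of_isLocalization (Submonoid.powers G) (Localization.Away G) A _).symm
  haveI : Module.Flat (MvPolynomial (Fin n) R) (Localization.Away G) :=
    IsLocalization.flat _ (Submonoid.powers G)
  obtain ⟨e⟩ := nonempty_lbc_restrict (MvPolynomial (Fin n) R) (Localization.Away G) A (Localization.Away (φ G)) K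
  have hs : Function.Surjective (algebraMap (Localization.Away G) (Localization.Away (φ G))) := fun y => by
    obtain ⟨b, ⟨_, k, rfl⟩, rfl⟩ := IsLocalization.exists_mk'_eq (Submonoid.powers (φ G)) y
    obtain ⟨a, rfl⟩ := hφ b
    refine ⟨IsLocalization.mk' _ a (⟨G ^ k, k, rfl⟩ : Submonoid.powers G), ?_⟩
    show θ _ = _
    simp only [θ, IsLocalization.Away.map, IsLocalization.map_mk', map_pow]
  haveI : Algebra.FiniteType (Localization.Away G) (Localization.Away (φ G)) :=
    Algebra.FiniteType.of_surjective (Algebra.ofId (Localization.Away G) (Localization.Away (φ G))) hs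
  have hR : PCHom ((algebraMap (MvPolynomial (Fin n) R) (Localization.Away G)).comp MvPolynomial.C) :=
    PCHom.comp ⟨n, RingHom.id _, Function.surjective_id, rfl, pcMap_of_bijective _ Function.bijective_id⟩
      (pcHom_away _ G)
  have hcomp : (algebraMap (Localization.Away G) (Localization.Away (φ G))).comp
      ((algebraMap (MvPolynomial (Fin n) R) (Localization.Away G)).comp MvPolynomial.C) =
      algebraMap R (Localization.Away (φ G)) := by
    rw [← RingHom.comp_assoc, ← IsScalarTower.algebraMap_eq (MvPolynomial (Fin n) R) (Localization.Away G)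
      (Localization.Away (φ G)), IsScalarTower.algebraMap_eq (MvPolynomial (Fin n) R) A (Localization.Away (φ G)),
      RingHom.comp_assoc, show (algebraMap (MvPolynomial (Fin n) R) A).comp MvPolynomial.C = algebraMap R A from hc,
      ← IsScalarTower.algebraMap_eq R A (Localization.Away (φ G))]
  rw [← rel_trans _ hcomp hR, rel_iff_of_surjective hs]
  exact ⟨fun h => h.of_iso e, fun h => h.of_iso e.symm⟩

theorem rel_away [Algebra.FiniteType R A] (g : A) (K : DRing.Cx A) (m : ℤ)
    (h : DerCA.IsRelPseudoCoherent R A m (DRing.toD K)) :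
    DerCA.IsRelPseudoCoherent R (Localization.Away g) m
        (DRing.toD (((ModuleCat.extendScalars.{u, u, u} (algebraMap A (Localization.Away g))).mapHomologicalComplex
          (ComplexShape.up ℤ)).obj K)) := by
  obtain ⟨n, φ, hφ, hc⟩ := exists_presentation (A := R) (B := A)
  obtain ⟨G, hG⟩ := hφ g
  haveI := hasLBaseChange (algebraMap (MvPolynomial (Fin n) R) (Localization.Away G))
  exact (rel_away_key φ hφ hc G g hG K m).mp (pc_lbc _ ((rel_iff φ hφ hc m _).mp h))

theorem rel_of_span [Algebra.FiniteType R A] {r : ℕ} (f : Fin r → A) (hf : Ideal.span (Set.range f) = ⊤)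
    (K : DRing.Cx A) (m : ℤ)
    (h : ∀ i, DerCA.IsRelPseudoCoherent R (Localization.Away (f i)) m
        (DRing.toD (((ModuleCat.extendScalars.{u, u, u} (algebraMap A (Localization.Away (f i)))).mapHomologicalComplex
          (ComplexShape.up ℤ)).obj K))) :
    DerCA.IsRelPseudoCoherent R A m (DRing.toD K) := by
  obtain ⟨n, φ, hφ, hc⟩ := exists_presentation (A := R) (B := A)
  choose g hg using fun i => hφ (f i)
  obtain ⟨c, hcK, hc1⟩ : ∃ c ∈ Ideal.span (Set.range g), φ c = 1 := by
    refine (Ideal.mem_map_iff_of_surjective φ hφ).mp ?_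
    rw [Ideal.map_span, ← Set.range_comp, show φ ∘ g = f from funext hg, hf]
    trivial
  let G : Fin (r + 1) → MvPolynomial (Fin n) R := Fin.cons (1 - c) g
  have hG : Ideal.span (Set.range G) = ⊤ := by
    rw [Ideal.eq_top_iff_one]
    have h1 : 1 - c ∈ Ideal.span (Set.range G) := Ideal.subset_span ⟨0, rfl⟩
    have h2 : Ideal.span (Set.range g) ≤ Ideal.span (Set.range G) := Ideal.span_le.mpr fun _ ⟨i, hi⟩ =>
      Ideal.subset_span ⟨i.succ, by simpa [G] using hi⟩
    simpa using Ideal.add_mem _ h1 (h2 hcK)
  haveI : ∀ k, DRing.HasLBaseChange (algebraMap (MvPolynomial (Fin n) R) (Localization.Away (G k))) :=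
    fun k => hasLBaseChange _
  refine (rel_iff φ hφ hc m _).mpr ((ffFamily_away G hG).pc _ fun k => ?_)
  cases k using Fin.cases with
  | zero =>
    refine (rel_away_key φ hφ hc (G 0) (φ (G 0)) rfl K m).mpr ?_
    have h0 : φ (G 0) = 0 := by simp [G, hc1]
    haveI : Subsingleton (Localization.Away (φ (G 0))) :=
      IsLocalization.subsingleton (M := Submonoid.powers (φ (G 0))) ⟨1, by simp [h0]⟩
    haveI : Algebra.FiniteType R (Localization.Away (φ (G 0))) :=
      Algebra.FiniteType.of_surjective (R := R) (A := R) (Algebra.ofId R _) fun y => ⟨0, Subsingleton.elim _ _⟩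
    obtain ⟨k, ψ, hψ, hψc⟩ := exists_presentation (A := R) (B := Localization.Away (φ (G 0)))
    refine (rel_iff ψ hψ hψc m _).mpr (pc_of_aboveZero projClass_fFree (aboveZero_restrict ψ fun i _ => ?_))
    haveI : Subsingleton ((DerivedCategory.homologyFunctor (ModuleCat.{u} (Localization.Away (φ (G 0)))) i).obj
        (DRing.toD (((ModuleCat.extendScalars.{u, u, u} (algebraMap A _)).mapHomologicalComplex
          (ComplexShape.up ℤ)).obj K))) := Module.subsingleton (Localization.Away (φ (G 0))) _
    exact ModuleCat.isZero_of_subsingleton _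
  | succ i =>
    exact (rel_away_key φ hφ hc (G i.succ) (f i) (by simp [G, hg]) K m).mpr (h i)

end Groth.Agent.PCHomLib
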