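import Groth.Agent.DRingLib.PCMap
import Groth.Agent.DRingLib.FlatBC
import Groth.Prelude.Def_MoreMor
import Mathlib.RingTheory.TensorProduct.MvPolynomial

/-!
# Pseudo-coherent ring maps of finite type: independence of the presentation, composition
-/

set_option autoImplicit false
set_option linter.style.haveILetI false
set_option backward.isDefEq.respectTransparency false

universe u

open CategoryTheory MvPolynomial
attribute [local instance] HasDerivedCategory.standard

noncomputable section

namespace Groth.Agent.PCHomLib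

open Groth.Agent.DRingLib

variable {A B C : Type u} [CommRing A] [CommRing B] [CommRing C]

/-- A pseudo-coherent ring map, in terms of presentations. -/
def PCHom (f : A →+* B) : Prop :=
  ∃ (n : ℕ) (φ : MvPolynomial (Fin n) A →+* B),
    Function.Surjective φ ∧ φ.comp MvPolynomial.C = f ∧ PCMap φ

theorem isPseudoCoherentHom_iff [Algebra A B] :
    MoreMor.IsPseudoCoherentHom A B ↔ PCHom (algebraMap A B) := by
  constructor
  · rintro ⟨n, φ, hφ, h⟩
    refine ⟨n, φ.toRingHom, hφ, φ.comp_algebraMap, ?_⟩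
    letI := φ.toRingHom.toAlgebra
    exact pcMap_algebraMap_iff.mpr h
  · rintro ⟨n, φ, hφ, hc, h⟩
    refine ⟨n, { φ with commutes' := fun a => RingHom.congr_fun hc a }, hφ, ?_⟩
    letI := φ.toAlgebra
    exact pcMap_algebraMap_iff.mp (show PCMap (algebraMap (MvPolynomial (Fin n) A) B) from h)

/-- Evaluation of a polynomial ring in finitely many variables is pseudo-coherent. -/
theorem pcMap_eval : ∀ (k : ℕ) (g : Fin k → A), PCMap (MvPolynomial.eval g)
  | 0, g => by
    refine pcMap_of_bijective _ ⟨fun p q h => ?_, fun a => ⟨MvPolynomial.C a, eval_C a⟩⟩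
    obtain ⟨a, rfl⟩ := MvPolynomial.C_surjective (Fin 0) p
    obtain ⟨b, rfl⟩ := MvPolynomial.C_surjective (Fin 0) q
    rw [eval_C, eval_C] at h
    rw [h]
  | k + 1, g => by
    have h : MvPolynomial.eval g = (MvPolynomial.eval (g ∘ Fin.succ)).comp
        ((Polynomial.evalRingHom (MvPolynomial.C (g 0))).comp
          (MvPolynomial.finSuccEquiv A k).toRingEquiv.toRingHom) := by
      refine MvPolynomial.ringHom_ext (fun a => ?_) fun i => ?_
      · simp [finSuccEquiv_apply]
      · cases i using Fin.cases <;> simp [finSuccEquiv_apply]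
    rw [h]
    exact (((pcMap_of_bijective _ (MvPolynomial.finSuccEquiv A k).toRingEquiv.bijective).comp
      (pcMap_evalRingHom _))).comp (pcMap_eval k _)

/-- Substituting for some of the variables. -/
theorem pcMap_elim {σ : Type} {k : ℕ} (g : Fin k → MvPolynomial σ A) :
    PCMap (MvPolynomial.aeval (R := A) (Sum.elim g MvPolynomial.X)).toRingHom := by
  have h : (MvPolynomial.aeval (R := A) (Sum.elim g MvPolynomial.X)).toRingHom =
      (MvPolynomial.eval g).comp (MvPolynomial.sumAlgEquiv A (Fin k) σ).toRingEquiv.toRingHom := by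
    refine MvPolynomial.ringHom_ext (fun a => ?_) fun i => ?_
    · simp
    · cases i <;> simp
  rw [h]
  exact (pcMap_of_bijective _ (MvPolynomial.sumAlgEquiv A (Fin k) σ).toRingEquiv.bijective).comp (pcMap_eval k g)

theorem pcMap_elim' {σ : Type} {k : ℕ} (g : Fin k → MvPolynomial σ A) :
    PCMap (MvPolynomial.aeval (R := A) (Sum.elim MvPolynomial.X g)).toRingHom := by
  have h : (MvPolynomial.aeval (R := A) (Sum.elim MvPolynomial.X g)).toRingHom =
      (MvPolynomial.aeval (R := A) (Sum.elim g MvPolynomial.X)).toRingHom.comp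
        (MvPolynomial.renameEquiv A (Equiv.sumComm σ (Fin k))).toRingEquiv.toRingHom := by
    refine MvPolynomial.ringHom_ext (fun a => ?_) fun i => ?_
    · simp
    · cases i <;> simp
  rw [h]
  exact (pcMap_of_bijective _ (MvPolynomial.renameEquiv A _).toRingEquiv.bijective).comp (pcMap_elim g)

/-- A pseudo-coherent map has only pseudo-coherent presentations. -/
theorem PCHom.pcMap_fin {f : A →+* B} (hf : PCHom f) {k : ℕ} (ψ : MvPolynomial (Fin k) A →+* B)
    (hψ : Function.Surjective ψ) (hc : ψ.comp MvPolynomial.C = f) : PCMap ψ := by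
  obtain ⟨n, φ, hφ, hφc, h⟩ := hf
  choose g hg using fun i => hφ (ψ (X i))
  choose g' hg' using fun i => hψ (φ (X i))
  have e : φ.comp (MvPolynomial.aeval (R := A) (Sum.elim MvPolynomial.X g)).toRingHom =
      ψ.comp (MvPolynomial.aeval (R := A) (Sum.elim g' MvPolynomial.X)).toRingHom := by
    refine MvPolynomial.ringHom_ext (fun a => ?_) fun i => ?_
    · simpa using (RingHom.congr_fun hφc a).trans (RingHom.congr_fun hc a).symm
    · cases i <;> simp [hg, hg']
  exact (pcMap_elim g').of_comp (e ▸ (pcMap_elim' g).comp h)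

theorem PCHom.pcMap {f : A →+* B} (hf : PCHom f) {σ : Type} [Finite σ] (ψ : MvPolynomial σ A →+* B)
    (hψ : Function.Surjective ψ) (hc : ψ.comp MvPolynomial.C = f) : PCMap ψ := by
  obtain ⟨k, ⟨e⟩⟩ := Finite.exists_equiv_fin σ
  let r := (MvPolynomial.renameEquiv A e).toRingEquiv
  have h1 : PCMap (ψ.comp r.symm.toRingHom) := by
    refine hf.pcMap_fin _ (hψ.comp r.symm.surjective) (RingHom.ext fun a => ?_)
    rw [← hc]
    simp [r]
  have := (pcMap_of_bijective r.toRingHom r.bijective).comp h1
  rwa [show (ψ.comp r.symm.toRingHom).comp r.toRingHom = ψ from RingHom.ext fun p => by simp] at this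

theorem pcHom_of_pcMap {σ : Type} [Finite σ] (φ : MvPolynomial σ A →+* B) (hφ : Function.Surjective φ)
    (h : PCMap φ) : PCHom (φ.comp MvPolynomial.C) := by
  obtain ⟨k, ⟨e⟩⟩ := Finite.exists_equiv_fin σ
  let r := (MvPolynomial.renameEquiv A e).toRingEquiv
  refine ⟨k, φ.comp r.symm.toRingHom, hφ.comp r.symm.surjective, RingHom.ext fun a => by simp [r], ?_⟩
  exact (pcMap_of_bijective r.symm.toRingHom r.symm.bijective).comp h

section BaseChange

attribute [local instance] MvPolynomial.algebraMvPolynomial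

theorem pcMap_map {φ : A →+* B} (h : PCMap φ) (σ : Type) :
    PCMap (MvPolynomial.map (σ := σ) φ) := by
  letI := φ.toAlgebra
  have hB : DRing.IsPseudoCoherentModule' A B := pcMap_algebraMap_iff.mp h
  haveI := hasLBaseChange (algebraMap A (MvPolynomial σ A))
  refine (pcMap_algebraMap_iff (A := MvPolynomial σ A) (B := MvPolynomial σ B)).mpr
    ((isPseudoCoherent'_iff _).mpr fun m => ?_)
  have hP := pc_lbc (algebraMap A (MvPolynomial σ A)) ((isPseudoCoherent'_iff _).mp hB m)
  have e1 := lbcInDIso (algebraMap A (MvPolynomial σ A)) (flat_baseMod A (MvPolynomial σ A))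
    (ModuleCat.of A B)
  haveI : Algebra.IsPushout A (MvPolynomial σ A) B (MvPolynomial σ B) := inferInstance
  exact pc_inD_congr (Algebra.IsPushout.out (R := A) (S := MvPolynomial σ A) (R' := B)
    (S' := MvPolynomial σ B)).equiv
    (pc_inD_congr (extendScalarsTensorEquiv A (MvPolynomial σ A) B) (hP.of_iso e1))

end BaseChange

/-- Pseudo-coherent ring maps compose. -/
theorem PCHom.comp {f : A →+* B} {g : B →+* C} (hf : PCHom f) (hg : PCHom g) : PCHom (g.comp f) := by
  obtain ⟨n, φ, hφ, hφc, h⟩ := hf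
  obtain ⟨k, ψ, hψ, hψc, h'⟩ := hg
  let e := (MvPolynomial.sumAlgEquiv A (Fin k) (Fin n)).toRingEquiv
  let Φ : MvPolynomial (Fin k ⊕ Fin n) A →+* C := ψ.comp ((MvPolynomial.map φ).comp e.toRingHom)
  have hΦ : PCMap Φ :=
    ((pcMap_of_bijective e.toRingHom e.bijective).comp (pcMap_map h (Fin k))).comp h'
  have := pcHom_of_pcMap Φ (hψ.comp ((MvPolynomial.map_surjective φ hφ).comp e.surjective)) hΦ
  rwa [show Φ.comp MvPolynomial.C = g.comp f from RingHom.ext fun a => by
    rw [← hψc, ← hφc]
    simp [Φ, e]] at this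

/-- Cancellation for pseudo-coherent ring maps. -/
theorem PCHom.of_comp {f : A →+* B} {g : B →+* C} (hf : PCHom f) (hgf : PCHom (g.comp f)) : PCHom g := by
  obtain ⟨n, φ, hφ, hφc, h⟩ := hf
  obtain ⟨k, χ, hχ, hχc, -⟩ := id hgf
  let ψ : MvPolynomial (Fin k) B →+* C := MvPolynomial.eval₂Hom g (fun i => χ (X i))
  have hfac : ψ.comp (MvPolynomial.map f) = χ := by
    refine MvPolynomial.ringHom_ext (fun a => ?_) fun i => ?_
    · simpa [ψ] using (RingHom.congr_fun hχc a).symm
    · simp [ψ]
  have hψ : Function.Surjective ψ := fun c => by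
    obtain ⟨p, rfl⟩ := hχ c
    exact ⟨MvPolynomial.map f p, RingHom.congr_fun hfac p⟩
  let e := (MvPolynomial.sumAlgEquiv A (Fin k) (Fin n)).toRingEquiv
  have hQ : PCMap ((MvPolynomial.map (σ := Fin k) φ).comp e.toRingHom) :=
    (pcMap_of_bijective e.toRingHom e.bijective).comp (pcMap_map h (Fin k))
  refine ⟨k, ψ, hψ, RingHom.ext fun b => by simp [ψ], hQ.of_comp ?_⟩
  refine hgf.pcMap _ (hψ.comp ((MvPolynomial.map_surjective φ hφ).comp e.surjective)) (RingHom.ext fun a => ?_)
  rw [← hφc]
  simp [ψ, e]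

end Groth.Agent.PCHomLib
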