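import Groth.Agent.PCHomLib.Local
import Groth.Agent.FlatLocus.Syzygy

/-!
# Flat finitely presented modules over polynomial rings are pseudo-coherent
-/

set_option autoImplicit false
set_option linter.style.haveILetI false
set_option backward.isDefEq.respectTransparency false
set_option backward.defeqAttrib.useBackward true

universe u

open CategoryTheory TensorProduct Groth.Agent.FlatLocus Groth.Agent.GenFree
attribute [local instance] HasDerivedCategory.standard

noncomputable section

namespace Groth.Agent.PCHomLib

open Groth.Agent.DRingLib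

variable {R : Type u} [CommRing R] {n : ℕ}

theorem flat_of_exact_right {K F M : Type u} [AddCommGroup K] [Module R K] [AddCommGroup F] [Module R F]
    [AddCommGroup M] [Module R M] (i : K →ₗ[R] F) (p : F →ₗ[R] M) (hi : Function.Injective i)
    (hp : Function.Surjective p) (h : Function.Exact i p) [Module.Flat R F] [Module.Flat R M] :
    Module.Flat R K := by
  rw [Module.Flat.iff_lTensor_preserves_injective_linearMap]
  intro N N' _ _ _ _ l hl
  have h1 : Function.Injective (i.lTensor N) :=
    LinearMap.lTensor_injective_of_exact_of_flat p hp i hi h N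
  rw [LinearMap.lTensor_inj_iff_rTensor_inj] at h1
  have h2 : Function.Injective (l.lTensor F) :=
    Module.Flat.lTensor_preserves_injective_linearMap l hl
  have h3 : (i.rTensor N') ∘ₗ (l.lTensor K) = (l.lTensor F) ∘ₗ (i.rTensor N) :=
    TensorProduct.ext' fun _ _ => rfl
  have h4 : Function.Injective ((i.rTensor N') ∘ₗ (l.lTensor K)) := by
    rw [h3]
    exact h2.comp h1
  exact Function.Injective.of_comp h4

/-- The syzygies of a presentation of a module flat over the base are finitely generated. -/
theorem fg_ker_combMap {a k : ℕ} (v : Fin k → FreeMod R a n)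
    [Module.Flat R (FreeMod R a n ⧸ Submodule.span (MvPolynomial (Fin n) R) (Set.range v))] :
    (LinearMap.ker (combMap v)).FG := by
  classical
  let N := Submodule.span (MvPolynomial (Fin n) R) (Set.range v)
  haveI : IsLocalizedModule (⊥ : Submonoid (MvPolynomial (Fin n) R))
      (LinearMap.id : (FreeMod R a n ⧸ N) →ₗ[MvPolynomial (Fin n) R] FreeMod R a n ⧸ N) :=
    { map_units := fun ⟨s, hs⟩ => by
        obtain rfl := Submonoid.mem_bot.mp hs
        simp
      surj := fun y => ⟨(y, 1), by simp⟩
      exists_of_eq := fun {x y} h => ⟨1, by simpa using h⟩ }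
  have hall : ∀ q, q ∈ flatSet N := fun q => mem_flatSet_iff.mpr fun I =>
    Rel.mono ((flat_iff_rel N ⊥ LinearMap.id).mp ‹_› I) bot_le
  choose G h hq hG hspan using fun q => exists_syzygy_generators v q (hall q)
  obtain ⟨s, hs⟩ : ∃ s : Finset (PrimeSpectrum (MvPolynomial (Fin n) R)),
      Ideal.span ((s.image h : Finset _) : Set (MvPolynomial (Fin n) R)) = ⊤ := by
    have htop : Ideal.span (Set.range h) = ⊤ := by
      by_contra hne
      obtain ⟨m, hm, hle⟩ := Ideal.exists_le_maximal _ hne
      exact hq ⟨m, hm.isPrime⟩ (hle (Ideal.subset_span ⟨_, rfl⟩))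
    obtain ⟨t, ht, ht'⟩ := (Ideal.span_eq_top_iff_finite _).mp htop
    choose q hqt using fun x : (t : Set (MvPolynomial (Fin n) R)) => ht x.2
    refine ⟨Finset.univ.image q, eq_top_iff.mpr (ht'.symm.le.trans (Ideal.span_mono fun x hx => ?_))⟩
    exact Finset.mem_coe.mpr (Finset.mem_image.mpr
      ⟨q ⟨x, hx⟩, Finset.mem_image_of_mem _ (Finset.mem_univ _), hqt ⟨x, hx⟩⟩)
  refine ⟨s.biUnion G, le_antisymm (Submodule.span_le.mpr fun σ hσ => ?_) fun c hc => ?_⟩
  · obtain ⟨q, -, hσ⟩ := Finset.mem_biUnion.mp hσ
    exact hG q σ hσ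
  · choose e he using fun q => hspan q c hc
    refine Submodule.mem_of_span_top_of_smul_mem _ _ (Ideal.span_pow_eq_top _ hs (s.sup e)) c ?_
    rintro ⟨_, x, hx, rfl⟩
    obtain ⟨q, hqs, rfl⟩ := Finset.mem_image.mp hx
    show h q ^ s.sup e • c ∈ _
    rw [← Nat.sub_add_cancel (Finset.le_sup (f := e) hqs), pow_add, mul_smul]
    exact Submodule.smul_mem _ _ (Submodule.span_mono
      (Finset.coe_subset.mpr (Finset.subset_biUnion_of_mem G hqs)) (he q))

/-- A finitely presented module over a polynomial ring, flat over the base, is pseudo-coherent. -/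
theorem pc_inD_of_flat : ∀ (d : ℕ) (M : Type u) [AddCommGroup M] [Module (MvPolynomial (Fin n) R) M]
    [Module R M] [IsScalarTower R (MvPolynomial (Fin n) R) M]
    [Module.FinitePresentation (MvPolynomial (Fin n) R) M] [Module.Flat R M],
    PC FFree (-(d : ℤ)) (Dual.inD (MvPolynomial (Fin n) R) M) := by
  intro d
  induction d with
  | zero =>
    intro M _ _ _ _ _ _
    exact (pc_zero_inD (M := ModuleCat.of (MvPolynomial (Fin n) R) M)
      (inferInstanceAs (Module.Finite (MvPolynomial (Fin n) R) M))).mono (by simp)
  | succ d ih =>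
    intro M _ _ _ _ _ _
    obtain ⟨a, p, hp⟩ := Module.Finite.exists_fin' (MvPolynomial (Fin n) R) M
    obtain ⟨k, v, hv⟩ := Submodule.fg_iff_exists_fin_generating_family.mp
      (Module.FinitePresentation.fg_ker p hp)
    haveI : Module.Flat R (FreeMod R a n ⧸ Submodule.span (MvPolynomial (Fin n) R) (Set.range v)) := by
      rw [hv]
      exact Module.Flat.of_linearEquiv ((p.quotKerEquivOfSurjective hp).restrictScalars R)
    haveI : Module.Flat R ↥(LinearMap.ker p) :=
      flat_of_exact_right ((LinearMap.ker p).subtype.restrictScalars R) (p.restrictScalars R)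
        Subtype.val_injective hp (LinearMap.exact_subtype_ker_map p)
    haveI : Module.FinitePresentation (MvPolynomial (Fin n) R) ↥(LinearMap.ker p) := by
      have hr : LinearMap.range (combMap v) = LinearMap.ker p := (range_combMap v).trans hv
      let g : FreeMod R k n →ₗ[MvPolynomial (Fin n) R] ↥(LinearMap.ker p) :=
        (combMap v).codRestrict _ fun x => hr.le ⟨x, rfl⟩
      refine Module.finitePresentation_of_free_of_surjective g (fun y => ?_) ?_
      · obtain ⟨x, hx⟩ := hr.ge y.2
        exact ⟨x, Subtype.ext hx⟩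
      · rw [LinearMap.ker_codRestrict]
        exact fg_ker_combMap v
    obtain ⟨T, hT, h1, h2, h3⟩ := exists_triangle_of_surjective p hp
    rw [← h3]
    refine PC.obj₃ projClass_fFree T hT ?_ (by rw [h2]; exact (perf_inD_fin a).pc _)
    rw [h1]
    exact (ih ↥(LinearMap.ker p)).mono (by push_cast; omega)

/-- A flat ring map of finite presentation is pseudo-coherent. -/
theorem pcHom_of_flat {A B : Type u} [CommRing A] [CommRing B] [Algebra A B] [Module.Flat A B]
    [Algebra.FinitePresentation A B] : PCHom (algebraMap A B) := by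
  obtain ⟨n, φ, hφ, hker⟩ := Algebra.FinitePresentation.out (R := A) (A := B)
  refine ⟨n, φ.toRingHom, hφ, φ.comp_algebraMap, ?_⟩
  letI := φ.toRingHom.toAlgebra
  haveI : IsScalarTower A (MvPolynomial (Fin n) A) B := .of_algebraMap_eq fun a => (φ.commutes a).symm
  haveI : Module.FinitePresentation (MvPolynomial (Fin n) A) B :=
    Module.finitePresentation_of_surjective (Algebra.linearMap (MvPolynomial (Fin n) A) B) hφ hker
  refine pcMap_algebraMap_iff.mpr ((isPseudoCoherent'_iff _).mpr fun m => ?_)
  exact (pc_inD_of_flat (R := A) (-m).toNat B).mono (by omega)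

end Groth.Agent.PCHomLib
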