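import Groth.Agent.PCHomLib.Local
import Groth.Prelude.Def_DerCA

/-!
# Relative pseudo-coherence of complexes
-/

set_option autoImplicit false
set_option linter.style.haveILetI false
set_option backward.isDefEq.respectTransparency false

universe u

open CategoryTheory Limits Pretriangulated
attribute [local instance] HasDerivedCategory.standard

noncomputable section

namespace Groth.Agent.PCHomLib

open Groth.Agent.DRingLib Groth.Agent.DCohLib

variable {A B C P : Type u} [CommRing A] [CommRing B] [CommRing C] [CommRing P]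

theorem nonempty_restrictD_comp (φ : A →+* B) (ψ : B →+* C) (K : Dual.D C) :
    Nonempty ((DRing.restrictD φ).obj ((DRing.restrictD ψ).obj K) ≅ (DRing.restrictD (ψ.comp φ)).obj K) := by
  let F := ModuleCat.restrictScalars.{u} φ
  let G := ModuleCat.restrictScalars.{u} ψ
  let H := ModuleCat.restrictScalars.{u} (ψ.comp φ)
  let E := DerivedCategory.Q.objPreimage K
  let e := DerivedCategory.Q.objObjPreimageIso K
  let c := ComplexShape.up ℤ
  exact ⟨(DRing.restrictD φ).mapIso ((DRing.restrictD ψ).mapIso e.symm ≪≫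
      G.mapDerivedCategoryFactors.app E) ≪≫
    F.mapDerivedCategoryFactors.app ((G.mapHomologicalComplex c).obj E) ≪≫
    DerivedCategory.Q.mapIso ((NatIso.mapHomologicalComplex
      (ModuleCat.restrictScalarsComp'.{u} φ ψ (ψ.comp φ) rfl).symm c).app E) ≪≫
    (H.mapDerivedCategoryFactors.app E).symm ≪≫ (DRing.restrictD (ψ.comp φ)).mapIso e⟩

/-- Restriction along a composite, tested through the first map. -/
theorem pc_restrict_comp {φ : A →+* B} (h : PCMap φ) (ψ : B →+* C) {m : ℤ} (K : Dual.D C) :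
    PC FFree m ((DRing.restrictD ψ).obj K) ↔ PC FFree m ((DRing.restrictD (ψ.comp φ)).obj K) := by
  obtain ⟨e⟩ := nonempty_restrictD_comp φ ψ K
  exact h.pc_iff.trans ⟨fun h' => h'.of_iso e, fun h' => h'.of_iso e.symm⟩

/-- Independence of the presentation. -/
theorem pc_restrict_presentation {σ τ : Type} [Finite σ] [Finite τ] (φ : MvPolynomial σ A →+* B)
    (hφ : Function.Surjective φ) (ψ : MvPolynomial τ A →+* B) (hψ : Function.Surjective ψ)
    (hc : φ.comp MvPolynomial.C = ψ.comp MvPolynomial.C) {m : ℤ} (K : Dual.D B) :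
    PC FFree m ((DRing.restrictD φ).obj K) ↔ PC FFree m ((DRing.restrictD ψ).obj K) := by
  obtain ⟨n, ⟨es⟩⟩ := Finite.exists_equiv_fin σ
  obtain ⟨k, ⟨et⟩⟩ := Finite.exists_equiv_fin τ
  let rs := (MvPolynomial.renameEquiv A es).symm.toRingEquiv.toRingHom
  let rt := (MvPolynomial.renameEquiv A et).symm.toRingEquiv.toRingHom
  rw [pc_restrict_comp (pcMap_of_bijective rs (AlgEquiv.bijective _)) φ K,
    pc_restrict_comp (pcMap_of_bijective rt (AlgEquiv.bijective _)) ψ K]
  let φ' := φ.comp rs
  let ψ' := ψ.comp rt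
  have hφ' : Function.Surjective φ' := hφ.comp (AlgEquiv.surjective _)
  have hψ' : Function.Surjective ψ' := hψ.comp (AlgEquiv.surjective _)
  choose g hg using fun i => hφ' (ψ' (MvPolynomial.X i))
  choose g' hg' using fun i => hψ' (φ' (MvPolynomial.X i))
  have e : φ'.comp (MvPolynomial.aeval (R := A) (Sum.elim MvPolynomial.X g)).toRingHom =
      ψ'.comp (MvPolynomial.aeval (R := A) (Sum.elim g' MvPolynomial.X)).toRingHom := by
    refine MvPolynomial.ringHom_ext (fun a => ?_) fun i => ?_
    · simpa [φ', ψ', rs, rt] using RingHom.congr_fun hc a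
    · cases i <;> simp [hg, hg']
  rw [pc_restrict_comp (pcMap_elim' g) φ' K, pc_restrict_comp (pcMap_elim g') ψ' K, e]

variable [Algebra A B]

theorem rel_iff {σ : Type} [Finite σ] (φ : MvPolynomial σ A →+* B) (hφ : Function.Surjective φ)
    (hc : φ.comp MvPolynomial.C = algebraMap A B) (m : ℤ) (K : Dual.D B) :
    DerCA.IsRelPseudoCoherent A B m K ↔ PC FFree m ((DRing.restrictD φ).obj K) := by
  constructor
  · rintro ⟨n, α, hα, h⟩
    exact (pc_restrict_presentation (α : MvPolynomial (Fin n) A →+* B) hα φ hφ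
      (α.comp_algebraMap.trans hc.symm) K).mp ((isPseudoCoherent_iff _ _).mp h)
  · intro h
    obtain ⟨n, ⟨e⟩⟩ := Finite.exists_equiv_fin σ
    let α : MvPolynomial (Fin n) A →ₐ[A] B :=
      AlgHom.comp { φ with commutes' := fun a => RingHom.congr_fun hc a } (MvPolynomial.renameEquiv A e).symm.toAlgHom
    refine ⟨n, α, hφ.comp (AlgEquiv.surjective _), (isPseudoCoherent_iff _ _).mpr ?_⟩
    exact (pc_restrict_presentation φ hφ (α : MvPolynomial (Fin n) A →+* B)
      (hφ.comp (AlgEquiv.surjective _)) (hc.trans α.comp_algebraMap.symm) K).mp h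

theorem exists_presentation [Algebra.FiniteType A B] :
    ∃ (n : ℕ) (φ : MvPolynomial (Fin n) A →+* B), Function.Surjective φ ∧
      φ.comp MvPolynomial.C = algebraMap A B := by
  obtain ⟨n, φ, hφ⟩ := Algebra.FiniteType.iff_quotient_mvPolynomial''.mp ‹Algebra.FiniteType A B›
  exact ⟨n, φ.toRingHom, hφ, φ.comp_algebraMap⟩

theorem finiteType_of_rel {m : ℤ} {K : Dual.D B} (h : DerCA.IsRelPseudoCoherent A B m K) :
    Algebra.FiniteType A B := by
  obtain ⟨n, α, hα, -⟩ := h
  exact Algebra.FiniteType.of_surjective α hα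

/-- The pseudo-coherent modules relative to the base. -/
theorem relModule_iff {σ : Type} [Finite σ] (φ : MvPolynomial σ A →+* B) (hφ : Function.Surjective φ)
    (hc : φ.comp MvPolynomial.C = algebraMap A B) (m : ℤ) (M : Type u) [AddCommGroup M] [Module B M] :
    DerCA.IsRelPseudoCoherentModule A B m M ↔
      PC FFree m (Dual.inD (MvPolynomial σ A) ((ModuleCat.restrictScalars.{u} φ).obj (ModuleCat.of B M))) := by
  rw [DerCA.IsRelPseudoCoherentModule, rel_iff φ hφ hc]
  obtain ⟨e⟩ := nonempty_restrictD_inD φ (ModuleCat.of B M)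
  exact ⟨fun h => h.of_iso e, fun h => h.of_iso e.symm⟩

theorem relModule_self_all_iff :
    DerCA.IsRelPseudoCoherentModuleAll A B B ↔ PCHom (algebraMap A B) := by
  constructor
  · intro h
    haveI := finiteType_of_rel (h 0)
    obtain ⟨n, φ, hφ, hc⟩ := exists_presentation (A := A) (B := B)
    exact ⟨n, φ, hφ, hc, (pcMap_iff φ).mpr fun m => (relModule_iff φ hφ hc m B).mp (h m)⟩
  · rintro ⟨n, φ, hφ, hc, hp⟩ m
    exact (relModule_iff φ hφ hc m B).mpr ((pcMap_iff φ).mp hp m)

end Groth.Agent.PCHomLib
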