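import Groth.Agent.PCHomLib.Basic
import Groth.Agent.S2087
import Mathlib.RingTheory.Localization.Away.AdjoinRoot
import Mathlib.RingTheory.RingHom.FiniteType

/-!
# Pseudo-coherence of ring maps is local
-/

set_option autoImplicit false
set_option linter.style.haveILetI false
set_option backward.isDefEq.respectTransparency false

universe u

open CategoryTheory
attribute [local instance] HasDerivedCategory.standard

noncomputable section

namespace Groth.Agent.PCHomLib

open Groth.Agent.DRingLib

variable {A B : Type u} [CommRing A] [CommRing B]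

theorem monic_or_const_nzd (r : A) (p : Polynomial A)
    (h : (Polynomial.C r * Polynomial.X - 1) * p = 0) : p = 0 := by
  have h' : p = Polynomial.C r * Polynomial.X * p := by
    rw [sub_mul, one_mul, sub_eq_zero] at h
    exact h.symm
  ext i
  induction i with
  | zero =>
    rw [h', mul_assoc, Polynomial.coeff_C_mul, Polynomial.coeff_X_mul_zero, mul_zero]
    rfl
  | succ i ih =>
    rw [h', mul_assoc, Polynomial.coeff_C_mul, Polynomial.coeff_X_mul, ih]
    simp

variable (L : Type u) [CommRing L] [Algebra A L]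

theorem exists_poly_away (r : A) [IsLocalization.Away r L] :
    ∃ ψ : Polynomial A →+* L, Function.Surjective ψ ∧ PCMap ψ ∧ ψ.comp Polynomial.C = algebraMap A L := by
  let e : AdjoinRoot (Polynomial.C r * Polynomial.X - 1) ≃ₐ[A] L :=
    (Localization.awayEquivAdjoin r).symm.trans (IsLocalization.algEquiv (Submonoid.powers r) _ _)
  let ψ : Polynomial A →+* L := e.toRingEquiv.toRingHom.comp (AdjoinRoot.mk _)
  have hψ : Function.Surjective ψ := e.surjective.comp AdjoinRoot.mk_surjective
  refine ⟨ψ, hψ, pcMap_of_ker_eq_span ψ hψ _ (monic_or_const_nzd r) ?_, RingHom.ext fun a => e.commutes a⟩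
  ext p
  rw [RingHom.mem_ker, Ideal.mem_span_singleton]
  show e (AdjoinRoot.mk _ p) = 0 ↔ _
  rw [EmbeddingLike.map_eq_zero_iff, AdjoinRoot.mk_eq_zero]

theorem pcHom_away (r : A) [IsLocalization.Away r L] : PCHom (algebraMap A L) := by
  obtain ⟨ψ, hψ, h, hc⟩ := exists_poly_away L r
  let e := (MvPolynomial.uniqueAlgEquiv A PUnit.{1}).toRingEquiv
  have := pcHom_of_pcMap (ψ.comp e.toRingHom) (hψ.comp e.surjective)
    ((pcMap_of_bijective e.toRingHom e.bijective).comp h)
  rwa [show (ψ.comp e.toRingHom).comp MvPolynomial.C = algebraMap A L from RingHom.ext fun a => by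
    rw [← hc]
    simp [e]] at this

variable {L}

theorem pcHom_of_bijective (f : A →+* B) (hf : Function.Bijective f) : PCHom f := by
  refine ⟨0, f.comp (MvPolynomial.eval Fin.elim0), hf.2.comp fun a => ⟨MvPolynomial.C a, by simp⟩,
    RingHom.ext fun a => by simp, ?_⟩
  exact (pcMap_eval 0 _).comp (pcMap_of_bijective f hf)

theorem pcHom_of_subsingleton [Subsingleton B] (f : A →+* B) : PCHom f := by
  refine ⟨0, f.comp (MvPolynomial.eval Fin.elim0), fun b => ⟨0, Subsingleton.elim _ _⟩,
    RingHom.ext fun a => by simp, ?_⟩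
  refine (pcMap_eval 0 _).comp (pcMap_of_ker_eq_span f (fun b => ⟨0, Subsingleton.elim _ _⟩) 1
    (fun x hx => by simpa using hx) (Ideal.ext fun x => ?_))
  rw [Ideal.span_singleton_one]
  exact ⟨fun _ => Submodule.mem_top, fun _ => Subsingleton.elim _ _⟩

theorem PCHom.finiteType {f : A →+* B} (h : PCHom f) : f.FiniteType := by
  obtain ⟨n, φ, hφ, hc, -⟩ := h
  rw [← hc]
  exact (RingHom.FiniteType.of_surjective φ hφ).comp
    (RingHom.finiteType_algebraMap.mpr (inferInstance : Algebra.FiniteType A (MvPolynomial (Fin n) A)))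

/-- The localised presentation of a pseudo-coherent map is pseudo-coherent. -/
theorem pcMap_awayMap {n : ℕ} (φ : MvPolynomial (Fin n) A →+* B) (hφ : Function.Surjective φ)
    (a : MvPolynomial (Fin n) A)
    (h : PCHom ((algebraMap B (Localization.Away (φ a))).comp (φ.comp MvPolynomial.C))) :
    PCMap (IsLocalization.Away.map (Localization.Away a) (Localization.Away (φ a)) φ a) := by
  let θ := IsLocalization.Away.map (Localization.Away a) (Localization.Away (φ a)) φ a
  obtain ⟨ψ, hψ, hpc, hc⟩ := exists_poly_away (Localization.Away a) a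
  let e := (MvPolynomial.sumAlgEquiv A PUnit.{1} (Fin n)).toRingEquiv.trans
    (MvPolynomial.uniqueAlgEquiv (MvPolynomial (Fin n) A) PUnit.{1}).toRingEquiv
  let Θ : MvPolynomial (PUnit.{1} ⊕ Fin n) A →+* Localization.Away a := ψ.comp e.toRingHom
  have hΘ : PCMap Θ := (pcMap_of_bijective e.toRingHom e.bijective).comp hpc
  have hθ : Function.Surjective θ := fun y => by
    obtain ⟨b, ⟨_, k, rfl⟩, rfl⟩ := IsLocalization.exists_mk'_eq (Submonoid.powers (φ a)) y
    obtain ⟨p, rfl⟩ := hφ b
    refine ⟨IsLocalization.mk' _ p (⟨a ^ k, k, rfl⟩ : Submonoid.powers a), ?_⟩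
    refine (IsLocalization.map_mk' _ _ _).trans ?_
    congr 1
    exact Subtype.ext (map_pow φ a k)
  refine hΘ.of_comp (h.pcMap _ (hθ.comp (hψ.comp e.surjective)) (RingHom.ext fun x => ?_))
  show θ (ψ (e (MvPolynomial.C x))) = _
  have h1 : e (MvPolynomial.C x) = Polynomial.C (MvPolynomial.C x) := by simp [e]
  rw [h1]
  rw [show ψ (Polynomial.C (MvPolynomial.C x)) = algebraMap _ (Localization.Away a) (MvPolynomial.C x) from
    RingHom.congr_fun hc _]
  exact IsLocalization.map_eq _ _

/-- Pseudo-coherence of ring maps descends from a cover of the target. -/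
theorem pcHom_ofLocalizationSpanTarget :
    RingHom.OfLocalizationSpanTarget (fun {R S : Type u} [CommRing R] [CommRing S] (f : R →+* S) => PCHom f) := by
  intro R S _ _ f s hs h
  have hft := RingHom.finiteType_ofLocalizationSpanTarget f s hs fun r => (h r).finiteType
  letI := f.toAlgebra
  obtain ⟨n, φ₀, hφ⟩ := Algebra.FiniteType.iff_quotient_mvPolynomial''.mp (hft : Algebra.FiniteType R S)
  let φ : MvPolynomial (Fin n) R →+* S := φ₀.toRingHom
  have hc : φ.comp MvPolynomial.C = f := φ₀.comp_algebraMap
  refine ⟨n, φ, hφ, hc, ?_⟩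
  obtain ⟨t, hts, ht⟩ := (Ideal.span_eq_top_iff_finite s).mp hs
  -- lifts of the generators, and one element of the kernel
  choose g hg using fun r : (t : Set S) => hφ r.1
  let K := Ideal.span (Set.range g)
  obtain ⟨c, hcK, hc1⟩ : ∃ c ∈ K, φ c = 1 := by
    have h1 : (1 : S) ∈ K.map φ := by
      rw [show K.map φ = ⊤ from eq_top_iff.mpr (ht.symm.le.trans (Ideal.span_le.mpr fun r hr => by
        have h2 : φ (g ⟨r, hr⟩) ∈ K.map φ := Ideal.mem_map_of_mem φ (Ideal.subset_span ⟨⟨r, hr⟩, rfl⟩)
        rwa [show φ (g ⟨r, hr⟩) = r from hg ⟨r, hr⟩] at h2))]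
      trivial
    exact (Ideal.mem_map_iff_of_surjective φ hφ).mp h1
  obtain ⟨m, ⟨eq⟩⟩ := Finite.exists_equiv_fin (Option (t : Set S))
  let G : Fin m → MvPolynomial (Fin n) R := fun i => (eq.symm i).elim (1 - c) g
  have hG : Ideal.span (Set.range G) = ⊤ := by
    rw [Ideal.eq_top_iff_one]
    have h1 : 1 - c ∈ Ideal.span (Set.range G) := Ideal.subset_span ⟨eq none, by simp [G]⟩
    have h2 : K ≤ Ideal.span (Set.range G) := Ideal.span_le.mpr fun _ ⟨r, hr⟩ =>
      Ideal.subset_span ⟨eq (some r), by simp [G, hr]⟩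
    simpa using Ideal.add_mem _ h1 (h2 hcK)
  have hP : ∀ i, PCHom ((algebraMap S (Localization.Away (φ (G i)))).comp (φ.comp MvPolynomial.C)) := by
    intro i
    rw [hc]
    match hi : eq.symm i with
    | none =>
      have h0 : φ (G i) = 0 := by
        show φ ((eq.symm i).elim (1 - c) g) = 0
        rw [hi]
        simp [hc1]
      haveI : Subsingleton (Localization.Away (φ (G i))) :=
        IsLocalization.subsingleton (M := Submonoid.powers (φ (G i))) ⟨1, by simp [h0]⟩
      exact pcHom_of_subsingleton _
    | some r =>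
      have h0 : φ (G i) = (r : S) := by
        show φ ((eq.symm i).elim (1 - c) g) = _
        rw [hi]
        exact hg r
      rw [h0]
      exact h ⟨r.1, hts r.2⟩
  letI : Algebra (MvPolynomial (Fin n) R) S := φ.toAlgebra
  rw [pcMap_iff]
  intro k
  refine pc_inD_congr (selfEquiv φ inferInstance rfl).symm ?_
  let e0 := singleQZeroIso (ModuleCat.of (MvPolynomial (Fin n) R) S)
  refine PC.of_iso ((isPseudoCoherent_iff _ _).mp (Groth.Agent.S2087.result G hG
    ((HomologicalComplex.single (ModuleCat.{u} _) (ComplexShape.up ℤ) 0).obj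
      (ModuleCat.of (MvPolynomial (Fin n) R) S)) k fun i => ?_)) e0
  rw [isPseudoCoherent_iff]
  let θ := IsLocalization.Away.map (Localization.Away (G i)) (Localization.Away (φ (G i))) φ (G i)
  have hθ : PCMap θ := pcMap_awayMap φ hφ (G i) (hP i)
  letI : Algebra (Localization.Away (G i)) (Localization.Away (φ (G i))) := θ.toAlgebra
  haveI : IsScalarTower (MvPolynomial (Fin n) R) (Localization.Away (G i)) (Localization.Away (φ (G i))) :=
    .of_algebraMap_eq fun p => by
      rw [IsScalarTower.algebraMap_apply (MvPolynomial (Fin n) R) S (Localization.Away (φ (G i))) p]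
      show _ = θ _
      simp only [θ, IsLocalization.Away.map, IsLocalization.map_eq]
      rfl
  haveI : IsLocalization (Algebra.algebraMapSubmonoid S (Submonoid.powers (G i)))
      (Localization.Away (φ (G i))) := by
    rw [Algebra.algebraMapSubmonoid_powers]
    exact inferInstanceAs (IsLocalization.Away (φ (G i)) _)
  haveI hpo : Algebra.IsPushout (MvPolynomial (Fin n) R) (Localization.Away (G i)) S
      (Localization.Away (φ (G i))) :=
    (Algebra.isPushout_of_isLocalization (Submonoid.powers (G i)) (Localization.Away (G i)) S _).symm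
  have h0 := (isPseudoCoherent'_iff _).mp (pcMap_algebraMap_iff.mp hθ) k
  let l := (extendScalarsTensorEquiv (MvPolynomial (Fin n) R) (Localization.Away (G i)) S).trans
    hpo.out.equiv
  refine PC.of_iso (pc_inD_congr l.symm h0) ?_
  exact (singleQZeroIso _).symm ≪≫ DerivedCategory.Q.mapIso
    ((HomologicalComplex.singleMapHomologicalComplex _ (ComplexShape.up ℤ) 0).app _).symm

theorem pcHom_sourceAway : RingHom.StableUnderCompositionWithLocalizationAwaySource
    (fun {R S : Type u} [CommRing R] [CommRing S] (f : R →+* S) => PCHom f) :=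
  fun R S T _ _ _ _ r _ f hf => (pcHom_away S r).comp hf

/-- Pseudo-coherence of ring maps is a local property. -/
theorem pcHom_isLocal : RingHom.PropertyIsLocal (fun {R S : Type u} [CommRing R] [CommRing S] (f : R →+* S) => PCHom f) := by
  have hsrc := pcHom_sourceAway.{u}
  refine ⟨fun R S _ _ f r R' S' _ _ _ _ _ _ hf => ?_, pcHom_ofLocalizationSpanTarget,
    pcHom_ofLocalizationSpanTarget.ofLocalizationSpan hsrc,
    fun R S T _ _ _ _ s _ f hf => hf.comp (pcHom_away T s)⟩
  refine (pcHom_away R' r).of_comp ?_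
  rw [IsLocalization.Away.map, IsLocalization.map_comp]
  exact hf.comp (pcHom_away S' (f r))

end Groth.Agent.PCHomLib
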