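import Groth.Agent.PCHomLib.Flat
import Groth.Agent.PCHomLib.Scheme

/-!
# Quotients of flat finitely presented algebras
-/

set_option autoImplicit false
set_option linter.style.haveILetI false
set_option backward.isDefEq.respectTransparency false

universe u

open CategoryTheory
attribute [local instance] HasDerivedCategory.standard

noncomputable section

namespace Groth.Agent.PCHomLib

open Groth.Agent.DRingLib

variable {A B : Type u} [CommRing A] [CommRing B] [Algebra A B] [Module.Flat A B]
  [Algebra.FinitePresentation A B]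

theorem isPseudoCoherentHom_quotient_iff (I : Ideal B) :
    MoreMor.IsPseudoCoherentHom A (B ⧸ I) ↔ DRing.IsPseudoCoherentModule' B ↥I := by
  have h1 : PCHom (algebraMap A (B ⧸ I)) ↔ PCHom (Ideal.Quotient.mk I) := by
    have he : algebraMap A (B ⧸ I) = (Ideal.Quotient.mk I).comp (algebraMap A B) := rfl
    rw [he]
    exact ⟨fun h => (pcHom_of_flat (A := A) (B := B)).of_comp h, fun h => (pcHom_of_flat (A := A) (B := B)).comp h⟩
  rw [isPseudoCoherentHom_iff, h1, pcHom_iff_pcMap_of_surjective _ Ideal.Quotient.mk_surjective,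
    show Ideal.Quotient.mk I = algebraMap B (B ⧸ I) from rfl, pcMap_algebraMap_iff]
  simp only [DRing.IsPseudoCoherentModule', isPseudoCoherent'_iff]
  obtain ⟨T, hT, e1, e2, e3⟩ := exists_triangle_of_surjective (Submodule.mkQ I) (Submodule.mkQ_surjective I)
  let e : ↥(LinearMap.ker (Submodule.mkQ I)) ≃ₗ[B] ↥I := LinearEquiv.ofEq _ _ (Submodule.ker_mkQ I)
  have hB : ∀ m, PC FFree m T.obj₂ := fun m => by
    rw [e2]
    exact (perf_inD projClass_fFree (M := ModuleCat.of B B) ⟨inferInstance, inferInstance⟩).pc m
  refine ⟨fun h m => ?_, fun h m => ?_⟩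
  · refine pc_inD_congr e ?_
    rw [← e1]
    refine (PC.obj₁ projClass_fFree T hT (m := m - 1) ?_ (by rw [e3]; exact h (m - 1))).mono (by omega)
    exact hB _
  · rw [← e3]
    refine PC.obj₃ projClass_fFree T hT ?_ (hB _)
    rw [e1]
    exact pc_inD_congr e.symm (h (m + 1))

end Groth.Agent.PCHomLib
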