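import Groth.Agent.PCHomLib.Rel

/-!
# Criteria for relative pseudo-coherence
-/

set_option autoImplicit false
set_option linter.style.haveILetI false
set_option backward.isDefEq.respectTransparency false

universe u

open CategoryTheory Limits
attribute [local instance] HasDerivedCategory.standard

noncomputable section

namespace Groth.Agent.PCHomLib

open Groth.Agent.DRingLib Groth.Agent.DCohLib

variable {P A : Type u} [CommRing P] [CommRing A] (φ : P →+* A)

theorem finite_restrict_iff (hφ : Function.Surjective φ) (M : ModuleCat.{u} A) :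
    Module.Finite P ((ModuleCat.restrictScalars.{u} φ).obj M) ↔ Module.Finite A M := by
  letI := φ.toAlgebra
  letI : Module P M := Module.compHom _ φ
  haveI : IsScalarTower P A M := .of_algebraMap_smul fun _ _ => rfl
  haveI : Module.Finite P A := Module.Finite.of_surjective (Algebra.linearMap P A) hφ
  constructor
  · intro h
    haveI : Module.Finite P M := h
    exact Module.Finite.of_restrictScalars_finite P A M
  · intro h
    haveI : Module.Finite P M := Module.Finite.trans A M
    exact ‹Module.Finite P M›

theorem pc_zero_restrict_iff (hφ : Function.Surjective φ) (M : ModuleCat.{u} A) :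
    PC FFree 0 (Dual.inD P ((ModuleCat.restrictScalars.{u} φ).obj M)) ↔ Module.Finite A M :=
  (Iff.intro (fun h => finite_of_pc_zero h) (fun h => pc_zero_inD h)).trans (finite_restrict_iff φ hφ M)

theorem aboveZero_iff_subsingleton (K : Dual.D A) :
    (∃ n, AboveZero n K) ↔ ∃ b : ℤ, ∀ i : ℤ, b < i → Subsingleton (Dual.HD A K i) :=
  ⟨fun ⟨n, h⟩ => ⟨n, fun i hi => ModuleCat.subsingleton_of_isZero (h i hi.le)⟩,
    fun ⟨b, h⟩ => ⟨b + 1, fun i hi => by
      haveI : Subsingleton ((DerivedCategory.homologyFunctor (ModuleCat.{u} A) i).obj K) := h i (by omega)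
      exact ModuleCat.isZero_of_subsingleton _⟩⟩

theorem pc_restrict_of_homology {K : Dual.D A} (hb : ∃ n, AboveZero n K) (m : ℤ)
    (h : ∀ i, m ≤ i → PC FFree (m - i)
      (Dual.inD P ((ModuleCat.restrictScalars.{u} φ).obj (ModuleCat.of A (Dual.HD A K i))))) :
    PC FFree m ((DRing.restrictD φ).obj K) := by
  obtain ⟨n, hn⟩ := hb
  refine pc_of_homology projClass_fFree m (n - m).toNat _
    (aboveZero_restrict φ (hn.mono (by omega))) fun i hi => (h i hi).of_iso ?_
  exact (DerivedCategory.singleFunctor (ModuleCat.{u} P) 0).mapIso (hdRestrictIso φ K i).symm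

theorem finite_HD_of_pc_restrict [IsNoetherianRing P] (hφ : Function.Surjective φ) {K : Dual.D A}
    {m i : ℤ} (h : PC FFree m ((DRing.restrictD φ).obj K)) (hi : m ≤ i) :
    Module.Finite A (Dual.HD A K i) := by
  haveI := finite_HD_of_noetherian h hi
  exact (finite_restrict_iff φ hφ _).mp
    (Module.Finite.equiv (hdRestrictIso φ K i).toLinearEquiv)

theorem pc_restrict_iff_of_noetherian [IsNoetherianRing P] (hφ : Function.Surjective φ) (K : Dual.D A)
    (m : ℤ) : PC FFree m ((DRing.restrictD φ).obj K) ↔
      (∃ b : ℤ, ∀ i : ℤ, b < i → Subsingleton (Dual.HD A K i)) ∧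
        ∀ i : ℤ, m ≤ i → Module.Finite A (Dual.HD A K i) := by
  rw [← aboveZero_iff_subsingleton]
  constructor
  · intro h
    obtain ⟨n, hn⟩ := h.exists_aboveZero
    exact ⟨⟨n, aboveZero_of_restrict φ hn⟩, fun i hi => finite_HD_of_pc_restrict φ hφ h hi⟩
  · rintro ⟨hb, h⟩
    refine pc_restrict_of_homology φ hb m fun i hi => ?_
    haveI := (finite_restrict_iff φ hφ (ModuleCat.of A (Dual.HD A K i))).mpr (h i hi)
    exact (pc_inD_of_finite (i - m).toNat
      ((ModuleCat.restrictScalars.{u} φ).obj (ModuleCat.of A (Dual.HD A K i)))).mono (by omega)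

end Groth.Agent.PCHomLib
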