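import Groth.Agent.PCHomLib.Rel
import Groth.Agent.PCHomLib.Scheme

/-!
# Relative pseudo-coherence, change of base and finite maps
-/

set_option autoImplicit false
set_option linter.style.haveILetI false
set_option backward.isDefEq.respectTransparency false

universe u

open CategoryTheory Limits
attribute [local instance] HasDerivedCategory.standard

noncomputable section

namespace Groth.Agent.PCHomLib

open Groth.Agent.DRingLib Groth.Agent.DCohLib

/-- Relative pseudo-coherence does not see a pseudo-coherent change of base. -/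
theorem rel_trans {A B C : Type u} [CommRing A] [CommRing B] [CommRing C] [Algebra A C] [Algebra B C]
    [Algebra.FiniteType B C] (f : A →+* B) (hc : (algebraMap B C).comp f = algebraMap A C) (hf : PCHom f)
    (m : ℤ) (K : Dual.D C) :
    DerCA.IsRelPseudoCoherent B C m K ↔ DerCA.IsRelPseudoCoherent A C m K := by
  obtain ⟨n, φ, hφ, hφc, h⟩ := hf
  obtain ⟨k, ψ, hψ, hψc⟩ := exists_presentation (A := B) (B := C)
  let e := (MvPolynomial.sumAlgEquiv A (Fin k) (Fin n)).toRingEquiv
  let Q : MvPolynomial (Fin k ⊕ Fin n) A →+* MvPolynomial (Fin k) B :=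
    (MvPolynomial.map φ).comp e.toRingHom
  have hQ : PCMap Q := (pcMap_of_bijective e.toRingHom e.bijective).comp (pcMap_map h (Fin k))
  rw [rel_iff ψ hψ hψc, pc_restrict_comp hQ ψ K]
  refine (rel_iff (ψ.comp Q) (hψ.comp ((MvPolynomial.map_surjective φ hφ).comp e.surjective)) ?_ m K).symm
  rw [← hc, ← hψc, ← hφc]
  exact RingHom.ext fun a => by simp [Q, e]

theorem rel_iff_of_surjective {A B : Type u} [CommRing A] [CommRing B] [Algebra A B]
    (hs : Function.Surjective (algebraMap A B)) (m : ℤ) (K : Dual.D B) :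
    DerCA.IsRelPseudoCoherent A B m K ↔ PC FFree m ((DRing.restrictD (algebraMap A B)).obj K) := by
  have hb : Function.Bijective (MvPolynomial.eval (Fin.elim0 : Fin 0 → A)) := by
    refine ⟨fun p q h => ?_, fun a => ⟨MvPolynomial.C a, by simp⟩⟩
    obtain ⟨a, rfl⟩ := MvPolynomial.C_surjective (Fin 0) p
    obtain ⟨b, rfl⟩ := MvPolynomial.C_surjective (Fin 0) q
    simp at h
    rw [h]
  rw [rel_iff ((algebraMap A B).comp (MvPolynomial.eval Fin.elim0)) (hs.comp hb.2)
    (RingHom.ext fun a => by simp)]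
  exact (pc_restrict_comp (pcMap_of_bijective _ hb) _ K).symm

theorem rel_iff_pc_aux : ∀ (n : ℕ) (A B : Type u) [CommRing A] [CommRing B] [Algebra A B]
    (x : Fin n → B), (∀ i, (algebraMap A B).IsIntegralElem (x i)) →
    Function.Surjective (MvPolynomial.eval₂Hom (algebraMap A B) x) → ∀ (m : ℤ) (K : Dual.D B),
    (DerCA.IsRelPseudoCoherent A B m K ↔ PC FFree m ((DRing.restrictD (algebraMap A B)).obj K))
  | 0, A, B, _, _, _, x, _, hs, m, K => by
    refine rel_iff_of_surjective (fun b => ?_) m K
    obtain ⟨p, rfl⟩ := hs b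
    obtain ⟨a, rfl⟩ := MvPolynomial.C_surjective (Fin 0) p
    exact ⟨a, by simp⟩
  | n + 1, A, B, _, _, _, x, hx, hs, m, K => by
    obtain ⟨p, hp, hp0⟩ := hx 0
    obtain ⟨h1, h2⟩ := pcMap_adjoinRoot p hp
    let g : AdjoinRoot p →+* B := AdjoinRoot.lift (algebraMap A B) (x 0) hp0
    letI : Algebra (AdjoinRoot p) B := g.toAlgebra
    haveI : IsScalarTower A (AdjoinRoot p) B := .of_algebraMap_eq fun a => (AdjoinRoot.lift_of hp0).symm
    have hg : (algebraMap (AdjoinRoot p) B).comp (algebraMap A (AdjoinRoot p)) = algebraMap A B :=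
      (IsScalarTower.algebraMap_eq A (AdjoinRoot p) B).symm
    have hsg : Function.Surjective (MvPolynomial.eval₂Hom (algebraMap (AdjoinRoot p) B) (x ∘ Fin.succ)) := by
      intro b
      obtain ⟨r, rfl⟩ := hs b
      refine ⟨MvPolynomial.eval₂Hom (MvPolynomial.C.comp (algebraMap A (AdjoinRoot p)))
        (Fin.cases (MvPolynomial.C (AdjoinRoot.root p)) MvPolynomial.X) r, ?_⟩
      refine RingHom.congr_fun (f := (MvPolynomial.eval₂Hom g (x ∘ Fin.succ)).comp
        (MvPolynomial.eval₂Hom _ _)) ?_ r
      refine MvPolynomial.ringHom_ext (fun a => ?_) fun i => ?_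
      · simpa using (show g (algebraMap A (AdjoinRoot p) a) = algebraMap A B a from RingHom.congr_fun hg a)
      · cases i using Fin.cases <;> simp [g]
    haveI : Algebra.FiniteType (AdjoinRoot p) B :=
      Algebra.FiniteType.of_surjective
        (MvPolynomial.aeval (R := AdjoinRoot p) (x ∘ Fin.succ)) hsg
    have key := rel_iff_pc_aux n (AdjoinRoot p) B (x ∘ Fin.succ) (fun i => ?_) hsg m K
    · rw [← rel_trans _ hg h2 m K, key, pc_restrict_comp h1 (algebraMap (AdjoinRoot p) B) K, hg]
    · obtain ⟨q, hq, hq0⟩ := hx i.succ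
      refine ⟨q.map (algebraMap A (AdjoinRoot p)), hq.map _, ?_⟩
      rw [Polynomial.eval₂_map, hg]
      exact hq0

/-- For a finite algebra, relative pseudo-coherence is pseudo-coherence over the base. -/
theorem rel_iff_pc_of_finite (A B : Type u) [CommRing A] [CommRing B] [Algebra A B] [Module.Finite A B]
    (m : ℤ) (K : Dual.D B) :
    DerCA.IsRelPseudoCoherent A B m K ↔ PC FFree m ((DRing.restrictD (algebraMap A B)).obj K) := by
  obtain ⟨n, φ, hφ⟩ := Algebra.FiniteType.iff_quotient_mvPolynomial''.mp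
    (inferInstance : Algebra.FiniteType A B)
  refine rel_iff_pc_aux n A B (fun i => φ (MvPolynomial.X i))
    (fun i => Algebra.IsIntegral.isIntegral (R := A) _) ?_ m K
  rw [show MvPolynomial.eval₂Hom (algebraMap A B) (fun i => φ (MvPolynomial.X i)) = φ.toRingHom from
    MvPolynomial.ringHom_ext (fun a => by simp) fun i => by simp]
  exact hφ

end Groth.Agent.PCHomLib
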